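import Cfsg.Agent.Lib.Perm.DihedralB.Key

/-!
# A rational primitive Schur ring over a dihedral group is trivial
-/

set_option autoImplicit false
set_option linter.unusedSectionVars false

namespace Cfsg.Agent.Perm.DihedralB

open DihedralGroup Finset

variable {m : ℕ} [NeZero m]

/-- Evaluation of the group algebra along a function. -/
noncomputable def evalD (f : DihedralGroup m → ℤ) (a : DR m) : ℤ := ∑ g, f g * a.coeff g

theorem evalD_mul {f : DihedralGroup m → ℤ} (hf : ∀ a b, f (a * b) = f a * f b) (a b : DR m) :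
    evalD f (a * b) = evalD f a * evalD f b := by
  rw [evalD, evalD, evalD, Finset.sum_mul_sum]
  simp only [coeff_mul_dr, Finset.mul_sum]
  rw [Finset.sum_comm]
  refine Finset.sum_congr rfl fun z _ => ?_
  refine Fintype.sum_equiv (Equiv.mulLeft z⁻¹) _ _ fun g => ?_
  have : f g = f z * f (z⁻¹ * g) := by rw [← hf, mul_inv_cancel_left]
  rw [Equiv.coe_mulLeft, this]
  ring

/-- The eight-point check. -/
theorem eight_check (a b c d : ℤ) (ha : a = 0 ∨ a = 1) (hb : b = 0 ∨ b = 1) (hc : c = 0 ∨ c = 1)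
    (hd : d = 0 ∨ d = 1) (e : Fin 8 → ℤ) (he : e = ![a, b, c, d, 1 - a, 1 - b, 1 - c, 1 - d])
    (h1 : ∑ i, e i * e (i + 1) = 2) (h2 : ∑ i, e i * e (i + 2) = 2) : False := by
  subst he
  rcases ha with rfl | rfl <;> rcases hb with rfl | rfl <;> rcases hc with rfl | rfl <;>
    rcases hd with rfl | rfl <;> simp [Fin.sum_univ_eight] at h1 h2

/-- The arithmetic of the single remaining class. -/
theorem count_core {xs ys m l κ P Q : ℤ} (A1 : (xs + ys) * (xs + ys) = κ + l * (2 * m))
    (A2 : (xs - ys) * (xs - ys) = κ) (A3 : xs + ys = κ + l) (A4 : xs + P = l)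
    (A5 : Q = m - 2 * ys + P) (hPn : 0 ≤ P) (hQn : 0 ≤ Q) (hxpos : 1 ≤ xs) (hxlt : xs ≤ m - 1) :
    ∃ rr : ℤ, κ = rr * rr ∧ P = 0 ∧ Q = 0 ∧ 2 ≤ rr * rr ∧ xs = rr * rr + rr ∧ m = 2 * (rr * rr) := by
  obtain ⟨rr, hrr⟩ : ∃ rr, rr = xs - ys := ⟨_, rfl⟩
  have hκ : κ = rr * rr := by rw [hrr, A2]
  have hl : l = xs + ys - rr * rr := by linarith
  have hyP : ys = rr * rr + P := by linarith
  have hmQ : m = 2 * (rr * rr) + P + Q := by linarith
  have hxr : xs = ys + rr := by linarith
  have hmain : 2 * xs * ys = m * l := by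
    have e : (xs + ys) * (xs + ys) = (xs - ys) * (xs - ys) + 4 * (xs * ys) := by ring
    linarith
  have hrel : P * (rr * rr - rr) + Q * (rr * rr + rr) + 2 * (P * Q) = 0 := by
    rw [hl, hxr, hyP, hmQ] at hmain
    linear_combination -hmain
  refine ⟨rr, hκ, ?_⟩
  rcases (show rr = -1 ∨ rr = 0 ∨ rr = 1 ∨ rr ≤ -2 ∨ 2 ≤ rr by omega) with e | e | e | e
  · exfalso
    rw [e] at hrel hxr hyP
    have h0 : P * (1 + Q) = 0 := by linarith
    rcases mul_eq_zero.1 h0 with f | f <;> linarith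
  · exfalso
    rw [e] at hrel hxr hyP hmQ
    have h0 : P * Q = 0 := by linarith
    rcases mul_eq_zero.1 h0 with f | f <;> linarith
  · exfalso
    rw [e] at hrel hxr hyP hmQ
    have h0 : Q * (1 + P) = 0 := by linarith
    rcases mul_eq_zero.1 h0 with f | f <;> linarith
  all_goals
    have hab : 0 < rr * rr - rr ∧ 0 < rr * rr + rr ∧ 2 ≤ rr * rr := by
      rcases e with e | e <;> refine ⟨?_, ?_, ?_⟩ <;> nlinarith only [e]
    obtain ⟨ha, hb, hc⟩ := hab
    have t1 := mul_nonneg hPn ha.le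
    have t2 := mul_nonneg hQn hb.le
    have t3 := mul_nonneg hPn hQn
    have u1 : P * (rr * rr - rr) = 0 := by linarith
    have u2 : Q * (rr * rr + rr) = 0 := by linarith
    have hP00 := (mul_eq_zero.1 u1).resolve_right ha.ne'
    have hQ00 := (mul_eq_zero.1 u2).resolve_right hb.ne'
    exact ⟨hP00, hQ00, hc, by linarith, by linarith⟩

/-- The parity count forces `rr = ±2`. -/
theorem rr_two {xs rr v xp yp m : ℤ} (hr2 : 2 ≤ rr * rr) (hx : xs = rr * rr + rr)
    (hm : m = 2 * (rr * rr)) (hv : v = 0 ∨ v = 1) (hxp : xp = xs - m * v)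
    (B1 : (xp + yp) * (xp + yp) = rr * rr) (B2 : (xp - yp) * (xp - yp) = rr * rr)
    (hle : xs ≤ rr * rr - 1 + rr * rr * v) (hge : rr * rr * v ≤ xs) : rr = 2 ∨ rr = -2 := by
  have hxp2 : xp * xp ≤ rr * rr := by
    have e : (xp + yp) * (xp + yp) + (xp - yp) * (xp - yp) = 2 * (xp * xp) + 2 * (yp * yp) := by
      ring
    have := mul_self_nonneg yp
    linarith
  rcases hv with e | e <;> subst e
  · right
    have h2 : rr ≤ -2 := by
      by_contra hh
      have : rr = -1 := by linarith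
      subst this; norm_num at hr2
    by_contra hne
    have h3 : rr ≤ -3 := by omega
    have h4 : -rr < rr * rr + rr := by nlinarith only [h3]
    have : xp = rr * rr + rr := by rw [hxp, hx]; ring
    rw [this] at hxp2
    nlinarith only [hxp2, h4, h3]
  · left
    have h2 : 2 ≤ rr := by
      by_contra hh
      have : rr = 0 ∨ rr = 1 := by omega
      rcases this with e | e <;> subst e <;> norm_num at hr2
    by_contra hne
    have h3 : 3 ≤ rr := by omega
    have h4 : rr < rr * rr - rr := by nlinarith only [h3]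
    have : xp = rr - rr * rr := by rw [hxp, hx, hm]; ring
    rw [this] at hxp2
    nlinarith only [hxp2, h4, h3]

namespace DSRing

variable {S : DSRing m} {p : ℕ} {h : ZMod m}

theorem ind_zero_one (x g : DihedralGroup m) :
    (S.ind x).coeff g = 0 ∨ (S.ind x).coeff g = 1 := by
  by_cases hg : S.rel x g
  · exact Or.inr (S.coeff_ind_pos hg)
  · exact Or.inl (S.coeff_ind_neg hg)

theorem other_unique (hm : 2 ≤ m) (hrat : S.IsRatl) (hP : Pick p h) {x y : DihedralGroup m}
    (hx : Other S h x) (hy : Other S h y) : S.rel x y := by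
  classical
  by_contra hne
  obtain ⟨κ, l, h1, h2⟩ := other_mul hm hrat hP hx hx
  obtain ⟨κ', l', h1', h2'⟩ := other_mul hm hrat hP hx hy
  set t := S.ind x
  set u := S.ind y
  have hx1 : t.coeff 1 = 0 := S.coeff_ind_neg fun e => hx.1 (S.one x (S.equiv.symm e))
  have hy1 : u.coeff 1 = 0 := S.coeff_ind_neg fun e => hy.1 (S.one y (S.equiv.symm e))
  have hdisj : ∀ w, t.coeff w * u.coeff w = 0 := fun w => by
    by_cases hw : S.rel x w
    · rw [show u.coeff w = 0 from S.coeff_ind_neg fun e => hne (S.equiv.trans hw (S.equiv.symm e)),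
        mul_zero]
    · rw [show t.coeff w = 0 from S.coeff_ind_neg hw, zero_mul]
  have hshape : ∀ (κ l : ℤ) (q : DR m), q.coeff 1 = κ + l →
      (∀ g : DihedralGroup m, g ≠ 1 → q.coeff g = l) → ∀ (v : DR m) (g : DihedralGroup m),
      (q * v).coeff g = κ * v.coeff g + l * ∑ w, v.coeff w := by
    intro κ l q e1 e2 v g
    rw [coeff_mul_dr]
    have : ∀ z : DihedralGroup m, q.coeff z = (if z = 1 then κ else 0) + l := fun z => by
      by_cases hz : z = 1
      · simp [hz, e1]
      · simp [hz, e2 z hz]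
    simp only [this, add_mul, Finset.sum_add_distrib, ite_mul, zero_mul, Finset.sum_ite_eq',
      Finset.mem_univ, if_true, inv_one, one_mul, ← Finset.mul_sum]
    congr 2
    exact Fintype.sum_equiv ((Equiv.inv _).trans (Equiv.mulRight g)) _ _ fun z => rfl
  have hassoc : t * t * u = t * u * t := by
    rw [mul_assoc, comm (S.ind_mem x) (mul_mem (S.ind_mem x) (S.ind_mem y))]
  have e1 := hshape κ l _ h1 h2 u 1
  have e2 := hshape κ' l' _ h1' h2' t 1
  have e3 := hshape κ l _ h1 h2 u x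
  have e4 := hshape κ' l' _ h1' h2' t x
  rw [hassoc] at e1 e3
  rw [e2, hx1, hy1, mul_zero, mul_zero, zero_add, zero_add] at e1
  rw [e4, show t.coeff x = 1 from S.coeff_ind_pos (S.equiv.refl x),
    show u.coeff x = 0 from S.coeff_ind_neg fun e => hne (S.equiv.symm e), mul_one, mul_zero,
    zero_add] at e3
  have hk' : κ' = 0 := by linarith
  have hz : (t * u).coeff 1 = 0 := by
    rw [coeff_mul_dr]
    refine Finset.sum_eq_zero fun w _ => ?_
    rw [mul_one, coeff_inv (S.ind_mem y), hdisj]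
  have hl' : l' = 0 := by rw [hz, hk', zero_add] at h1'; exact h1'.symm
  have hall : ∀ g, (t * u).coeff g = 0 := fun g => by
    by_cases hg : g = 1
    · rw [hg, hz]
    · rw [h2' g hg, hl']
  have hpos := hall (x * y)
  rw [coeff_mul_dr] at hpos
  have h3 := (Finset.sum_eq_zero_iff_of_nonneg (fun w _ => mul_nonneg (S.coeff_ind_nonneg _ _)
    (S.coeff_ind_nonneg _ _))).1 hpos x (Finset.mem_univ _)
  rw [inv_mul_cancel_left, S.coeff_ind_pos (S.equiv.refl x), S.coeff_ind_pos (S.equiv.refl y)] at h3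
  norm_num at h3

theorem other_false (hm : 2 ≤ m) (hrat : S.IsRatl) (hP : Pick p h) {x : DihedralGroup m}
    (hx : Other S h x) : False := by
  classical
  obtain ⟨κ, l, h1, h2⟩ := other_mul hm hrat hP hx hx
  set t := S.ind x with ht
  set Xc : ZMod m → ℤ := fun i => t.coeff (r i) with hXc
  set Yc : ZMod m → ℤ := fun i => t.coeff (sr i) with hYc
  have hX01 : ∀ i, Xc i = 0 ∨ Xc i = 1 := fun i => ind_zero_one _ _
  have hY01 : ∀ i, Yc i = 0 ∨ Yc i = 1 := fun i => ind_zero_one _ _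
  set xs : ℤ := ∑ i, Xc i with hxs
  set ys : ℤ := ∑ i, Yc i with hys
  have hXper : ∀ i, Xc (i + h) = Xc i := fun i => ind_periodic hm hrat hP hx i
  have hXsymm : ∀ i, Xc (-i) = Xc i := fun i => by
    simp only [hXc]
    rw [← coeff_inv (S.ind_mem x) (r i), inv_r]
  have hX0 : Xc 0 = 0 := by
    simp only [hXc, ← one_def]
    exact S.coeff_ind_neg fun e => hx.1 (S.one x (S.equiv.symm e))
  have hh0 : h ≠ 0 := fun e => hP.prime.ne_one (by rw [← hP.order, e, addOrderOf_zero])
  have hrh : (r h : DihedralGroup m) ≠ 1 := fun e => hh0 (r.inj (e.trans one_def))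
  -- evaluation along the trivial and the sign character
  have hev : ∀ f : DihedralGroup m → ℤ, (∀ a b, f (a * b) = f a * f b) → f 1 = 1 →
      evalD f t * evalD f t = κ + l * ∑ g, f g := by
    intro f hf hf1
    rw [← evalD_mul hf]
    simp only [evalD]
    have : ∀ g : DihedralGroup m, (t * t).coeff g = (if g = 1 then κ else 0) + l := fun g => by
      by_cases hg : g = 1
      · simp [hg, h1]
      · simp [hg, h2 g hg]
    simp only [this, mul_add, Finset.sum_add_distrib, mul_ite, mul_zero, Finset.sum_ite_eq',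
      Finset.mem_univ, if_true, hf1, one_mul, ← Finset.sum_mul]
    ring
  have hsum1 : evalD (fun _ => 1) t = xs + ys := by
    simp [evalD, sum_dihedral, hxs, hys, hXc, hYc]
  let sg : DihedralGroup m → ℤ := fun g => match g with
    | r _ => 1
    | sr _ => -1
  have hsg : ∀ a b, sg (a * b) = sg a * sg b := by
    rintro (a | a) (b | b) <;> simp [sg, r_mul_r, r_mul_sr, sr_mul_r, sr_mul_sr]
  have hsum2 : evalD sg t = xs - ys := by
    simp [evalD, sum_dihedral, sg, hxs, hys, hXc, hYc, sub_eq_add_neg]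
  have A1 : (xs + ys) * (xs + ys) = κ + l * (2 * m) := by
    rw [← hsum1, hev _ (fun _ _ => by norm_num) rfl, sum_dihedral]
    simp only [Finset.sum_const, Finset.card_univ, ZMod.card, nsmul_eq_mul, mul_one]; ring
  have A2 : (xs - ys) * (xs - ys) = κ := by
    rw [← hsum2, hev sg hsg (by rw [one_def]), sum_dihedral]
    simp [sg]
  have A3 : xs + ys = κ + l := by
    rw [← h1, coeff_mul_dr, ← hsum1]
    simp only [evalD, one_mul, mul_one]
    refine Finset.sum_congr rfl fun z _ => ?_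
    rw [coeff_inv (S.ind_mem x)]
    rcases ind_zero_one (S := S) x z with e | e <;> rw [ht, e] <;> norm_num
  -- the two counts at distance `h`
  have A4 : xs + ∑ i, Yc i * Yc (i + h) = l := by
    rw [← h2 (r h) hrh, coeff_mul_dr, sum_dihedral]
    congr 1
    · refine Finset.sum_congr rfl fun i _ => ?_
      rw [inv_r, r_mul_r, neg_add_eq_sub]
      change Xc i = Xc i * Xc (h - i)
      rw [show h - i = -i + h by abel, hXper, hXsymm]
      rcases hX01 i with e | e <;> rw [e] <;> norm_num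
    all_goals (try (refine Finset.sum_congr rfl fun i _ => ?_; rw [inv_sr, sr_mul_r]))
  set P : ℤ := ∑ i, Yc i * Yc (i + h) with hPdef
  set Q : ℤ := ∑ i, (1 - Yc i) * (1 - Yc (i + h)) with hQdef
  have hP0 : ∀ i ∈ (univ : Finset (ZMod m)), 0 ≤ Yc i * Yc (i + h) := fun i _ => by
    rcases hY01 i with e | e <;> rcases hY01 (i + h) with e' | e' <;> rw [e, e'] <;> norm_num
  have hQ0 : ∀ i ∈ (univ : Finset (ZMod m)), 0 ≤ (1 - Yc i) * (1 - Yc (i + h)) := fun i _ => by
    rcases hY01 i with e | e <;> rcases hY01 (i + h) with e' | e' <;> rw [e, e'] <;> norm_num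
  have hPn : 0 ≤ P := Finset.sum_nonneg hP0
  have hQn : 0 ≤ Q := Finset.sum_nonneg hQ0
  have A5 : Q = m - 2 * ys + P := by
    simp only [hQdef, hPdef, hys, sub_mul, mul_sub, one_mul, mul_one, Finset.sum_sub_distrib,
      Finset.sum_const, Finset.card_univ, ZMod.card, nsmul_eq_mul]
    have : ∑ i, Yc (i + h) = ∑ i, Yc i := Fintype.sum_equiv (Equiv.addRight h) _ _ fun i => rfl
    rw [this]; ring
  have hxpos : 1 ≤ xs := by
    obtain ⟨i, hi⟩ := S.exists_r hm x
    have h3 : Xc i = 1 := S.coeff_ind_pos hi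
    rw [← h3]
    exact Finset.single_le_sum (fun j _ => S.coeff_ind_nonneg x (r j)) (Finset.mem_univ i)
  have hxlt : xs ≤ m - 1 := by
    have : xs ≤ ∑ i ∈ (univ : Finset (ZMod m)).erase 0, (1 : ℤ) := by
      rw [hxs, ← Finset.sum_erase_add _ _ (Finset.mem_univ (0 : ZMod m)), hX0, add_zero]
      exact Finset.sum_le_sum fun i _ => by rcases hX01 i with e | e <;> rw [e] <;> norm_num
    simpa [Finset.card_erase_of_mem, ZMod.card, Nat.cast_sub (show 1 ≤ m by omega)] using this
  obtain ⟨rr, hκ, hP00, hQ00, hr2, hxsv, hm2⟩ :=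
    count_core A1 A2 A3 A4 A5 hPn hQn hxpos hxlt
  have halt : ∀ i, Yc (i + h) = 1 - Yc i := fun i => by
    have e1 := (Finset.sum_eq_zero_iff_of_nonneg hP0).1 hP00 i (Finset.mem_univ _)
    have e2 := (Finset.sum_eq_zero_iff_of_nonneg hQ0).1 hQ00 i (Finset.mem_univ _)
    rcases hY01 i with e | e <;> rcases hY01 (i + h) with e' | e' <;> rw [e, e'] at e1 e2 <;>
      rw [e, e'] <;> omega
  by_cases hp2 : p = 2
  swap
  · obtain ⟨k, hk⟩ := hP.prime.odd_of_ne_two hp2
    have hev2 : ∀ c : ℕ, ∀ i, Yc (i + (2 * c) • h) = Yc i := by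
      intro c
      induction c with
      | zero => simp
      | succ c ih =>
        intro i
        rw [show (2 * (c + 1)) • h = (2 * c) • h + (h + h) by rw [← two_nsmul, ← add_nsmul]; ring_nf,
          ← add_assoc, ← add_assoc, halt, halt, sub_sub_cancel, ih]
    have e0 := hev2 (k + 1) 0
    rw [show 2 * (k + 1) = p + 1 by omega, add_nsmul, ← hP.order, addOrderOf_nsmul_eq_zero,
      zero_add, one_nsmul, halt] at e0
    rcases hY01 0 with e | e <;> rw [e] at e0 <;> norm_num at e0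
  obtain ⟨a, ha⟩ := hP.two hp2
  have h2m : 2 ∣ m := by
    rw [ha]; exact dvd_pow_self 2 (fun e => by rw [e] at ha; omega)
  -- parity
  let π : ZMod m →+* ZMod 2 := ZMod.castHom h2m (ZMod 2)
  let s : ZMod m → ℤ := fun i => if π i = 0 then 1 else -1
  have hsadd : ∀ i j, s (i + j) = s i * s j := fun i j => by
    have h01 : ∀ c : ZMod 2, c = 0 ∨ c = 1 := by decide
    simp only [s, map_add]
    rcases h01 (π i) with e | e <;> rcases h01 (π j) with e' | e' <;> rw [e, e'] <;> decide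
  have hsneg : ∀ i, s (-i) = s i := fun i => by simp [s]
  let par : DihedralGroup m → ℤ := fun g => match g with
    | r i => s i
    | sr i => s i
  let par' : DihedralGroup m → ℤ := fun g => match g with
    | r i => s i
    | sr i => - s i
  have hpar : ∀ a b, par (a * b) = par a * par b := by
    rintro (a | a) (b | b) <;>
      simp only [par, r_mul_r, r_mul_sr, sr_mul_r, sr_mul_sr, sub_eq_add_neg, hsadd, hsneg] <;> ring
  have hpar' : ∀ a b, par' (a * b) = par' a * par' b := by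
    rintro (a | a) (b | b) <;>
      simp only [par', r_mul_r, r_mul_sr, sr_mul_r, sr_mul_sr, sub_eq_add_neg, hsadd, hsneg] <;> ring
  have hone : π 1 = 1 := map_one π
  have hs0 : s 0 = 1 := by simp [s]
  have hs1 : s 1 = -1 := by simp [s, hone]
  have hssum : ∑ i, s i = 0 := by
    have e : ∑ i, s (i + 1) = ∑ i, s i := Fintype.sum_equiv (Equiv.addRight 1) _ _ fun i => rfl
    simp only [hsadd, hs1, mul_neg_one, Finset.sum_neg_distrib] at e
    linarith
  set xp : ℤ := ∑ i, s i * Xc i with hxp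
  set yp : ℤ := ∑ i, s i * Yc i with hyp
  have B1 : (xp + yp) * (xp + yp) = rr * rr := by
    have h3 := hev par hpar (by rw [one_def]; exact hs0)
    rw [show evalD par t = xp + yp by simp [evalD, sum_dihedral, par, hxp, hyp, hXc, hYc],
      sum_dihedral] at h3
    simp only [par, hssum, add_zero, mul_zero] at h3
    rw [h3, hκ]
  have B2 : (xp - yp) * (xp - yp) = rr * rr := by
    have h3 := hev par' hpar' (by rw [one_def]; exact hs0)
    rw [show evalD par' t = xp - yp by
      simp [evalD, sum_dihedral, par', hxp, hyp, hXc, hYc, sub_eq_add_neg], sum_dihedral] at h3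
    simp only [par', hssum, Finset.sum_neg_distrib, neg_zero, add_zero, mul_zero] at h3
    rw [h3, hκ]
  have hodd : ∀ i, π i ≠ 0 → Xc i = Xc 1 := by
    intro i hi
    have hcop : Nat.Coprime i.val m := by
      refine (congrArg (Nat.Coprime i.val) ha).mpr ?_
      refine Nat.Coprime.pow_right _ (Nat.coprime_comm.1 ((Nat.prime_two.coprime_iff_not_dvd).2 ?_))
      intro hd
      refine hi ?_
      rw [← ZMod.natCast_zmod_val i, map_natCast]
      exact (ZMod.natCast_eq_zero_iff _ _).2 hd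
    have h3 := hrat (ZMod.unitOfCoprime i.val hcop) 1
    rw [ZMod.coe_unitOfCoprime, ZMod.natCast_zmod_val, mul_one] at h3
    exact (S.ind_mem x _ _ h3).symm
  have hxpx : xp = xs - (m : ℤ) * Xc 1 := by
    have e1 : ∀ i, s i * Xc i = Xc i - (1 - s i) * Xc 1 := fun i => by
      by_cases hi : π i = 0
      · simp [s, hi]
      · simp [s, hi, hodd i hi]; ring
    rw [hxp, Finset.sum_congr rfl (fun i _ => e1 i), Finset.sum_sub_distrib, ← Finset.sum_mul,
      Finset.sum_sub_distrib, hssum, Finset.sum_const, Finset.card_univ, ZMod.card]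
    simp [hxs]
  have hle : xs ≤ rr * rr - 1 + rr * rr * Xc 1 := by
    have e1 : ∀ i ∈ (univ : Finset (ZMod m)).erase 0,
        2 * Xc i ≤ (1 + s i) + (1 - s i) * Xc 1 := fun i _ => by
      by_cases hi : π i = 0
      · simp only [s, hi, if_pos]
        rcases hX01 i with e | e <;> rw [e] <;> norm_num
      · simp [s, hi, hodd i hi]
    have e2 := Finset.sum_le_sum e1
    rw [← Finset.mul_sum, Finset.sum_erase_eq_sub (Finset.mem_univ _),
      Finset.sum_erase_eq_sub (Finset.mem_univ _), hX0, hs0, ← hxs, Finset.sum_add_distrib,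
      ← Finset.sum_mul, Finset.sum_add_distrib, Finset.sum_sub_distrib, hssum, Finset.sum_const,
      Finset.card_univ, ZMod.card] at e2
    simp at e2
    rw [hm2] at e2
    linarith
  have hge : rr * rr * Xc 1 ≤ xs := by
    have e1 : ∀ i ∈ (univ : Finset (ZMod m)), (1 - s i) * Xc 1 ≤ 2 * Xc i := fun i _ => by
      by_cases hi : π i = 0
      · simp only [s, hi, if_pos]
        rcases hX01 i with e' | e' <;> rw [e'] <;> norm_num
      · simp [s, hi, hodd i hi]
    have e2 := Finset.sum_le_sum e1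
    rw [← Finset.sum_mul, ← Finset.mul_sum, Finset.sum_sub_distrib, hssum, Finset.sum_const,
      Finset.card_univ, ZMod.card, ← hxs] at e2
    simp at e2
    rw [hm2] at e2
    linarith
  have hrabs : rr = 2 ∨ rr = -2 :=
    rr_two hr2 hxsv hm2 (hX01 1) hxpx B1 B2 hle hge
  have hrr4 : rr * rr = 4 := by rcases hrabs with e | e <;> subst e <;> norm_num
  have hm8 : m = 8 := by rw [hrr4] at hm2; omega
  subst hm8
  have hh4 : h = 4 := by
    have h0 : (2 : ℕ) • h = 0 := by rw [← hp2, ← hP.order, addOrderOf_nsmul_eq_zero]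
    exact (by decide : ∀ z : ZMod 8, (2 : ℕ) • z = 0 → z ≠ 0 → z = 4) h h0 hh0
  subst hh4
  have hX26 : Xc 6 = Xc 2 := hXper 2
  have hX37 : Xc 7 = Xc 3 := hXper 3
  have hX15 : Xc 5 = Xc 1 := hXper 1
  have hX4 : Xc 4 = 0 := (hXper 0).trans hX0
  have hX3 : Xc 3 = Xc 1 := hodd 3 (by
    have : π (3 : ZMod 8) = 3 := map_ofNat π 3
    rw [this]; decide)
  have sum8 : ∀ f : ZMod 8 → ℤ, ∑ i, f i = f 0 + f 1 + f 2 + f 3 + f 4 + f 5 + f 6 + f 7 :=
    fun f => Fin.sum_univ_eight f
  have hxs8 : xs = ∑ i : ZMod 8, Xc i := rfl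
  rw [sum8] at hxs8
  have hxval : xs = 4 * Xc 1 + 2 * Xc 2 := by
    rw [hxs8]
    change Xc 0 + Xc 1 + Xc 2 + Xc 3 + Xc 4 + Xc 5 + Xc 6 + Xc 7 = _
    rw [hX0, hX4, hX15, hX26, hX37, hX3]; ring
  have hv : (Xc 1 = 1 ∧ Xc 2 = 1 ∧ xs = 6) ∨ (Xc 1 = 0 ∧ Xc 2 = 1 ∧ xs = 2) := by
    rcases hrabs with e | e <;> rw [e] at hxsv <;> norm_num at hxsv <;>
      rcases hX01 1 with e1 | e1 <;> rcases hX01 2 with e2 | e2 <;> rw [e1, e2] at hxval <;>
      first
        | exact Or.inl ⟨e1, e2, hxsv⟩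
        | exact Or.inr ⟨e1, e2, hxsv⟩
        | omega
  have hl8 : l = xs := by rw [← A4, hP00, add_zero]
  have hC : ∀ k : ZMod 8, k ≠ 0 →
      (∑ i : ZMod 8, Xc i * Xc (k - i)) + ∑ i : ZMod 8, Yc i * Yc (i + k) = l := by
    intro k hk
    rw [← h2 (r k) (fun e => hk (r.inj (e.trans one_def))), coeff_mul_dr, sum_dihedral]
    congr 1
    · refine Finset.sum_congr rfl fun i _ => ?_
      rw [inv_r, r_mul_r, neg_add_eq_sub]
  have hC1 := hC 1 (by decide)
  have hC2 := hC 2 (by decide)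
  rw [sum8 (fun i => Xc i * Xc (1 - i))] at hC1
  rw [sum8 (fun i => Xc i * Xc (2 - i))] at hC2
  change Xc 0 * Xc 1 + Xc 1 * Xc 0 + Xc 2 * Xc 7 + Xc 3 * Xc 6 + Xc 4 * Xc 5 + Xc 5 * Xc 4 +
    Xc 6 * Xc 3 + Xc 7 * Xc 2 + _ = _ at hC1
  change Xc 0 * Xc 2 + Xc 1 * Xc 1 + Xc 2 * Xc 0 + Xc 3 * Xc 7 + Xc 4 * Xc 6 + Xc 5 * Xc 5 +
    Xc 6 * Xc 4 + Xc 7 * Xc 3 + _ = _ at hC2
  rw [hX0, hX4, hX15, hX26, hX37, hX3, hl8] at hC1 hC2
  refine eight_check (Yc 0) (Yc 1) (Yc 2) (Yc 3) (hY01 _) (hY01 _) (hY01 _) (hY01 _) Yc ?_ ?_ ?_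
  · funext i
    have e4 := halt 0
    have e5 := halt 1
    have e6 := halt 2
    have e7 := halt 3
    fin_cases i
    exacts [rfl, rfl, rfl, rfl, e4, e5, e6, e7]
  · have : ∑ i : ZMod 8, Yc i * Yc (i + 1) = 2 := by
      rcases hv with ⟨e1, e2, e3⟩ | ⟨e1, e2, e3⟩ <;> rw [e1, e2, e3] at hC1 <;> linarith
    exact this
  · have : ∑ i : ZMod 8, Yc i * Yc (i + 2) = 2 := by
      rcases hv with ⟨e1, e2, e3⟩ | ⟨e1, e2, e3⟩ <;> rw [e1, e2, e3] at hC2 <;> linarith
    exact this

/-- A rational primitive Schur ring is trivial. -/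
theorem trivial_of_ratl (hm : 2 ≤ m) (hrat : S.IsRatl) {x y : DihedralGroup m} (hx : x ≠ 1)
    (hy : y ≠ 1) : S.rel x y := by
  obtain ⟨p, h, hP⟩ := exists_pick hm
  have : ∀ z, z ≠ 1 → S.rel z (r h) := fun z hz => by
    by_contra hne
    exact other_false hm hrat hP ⟨hz, hne⟩
  exact S.equiv.trans (this x hx) (S.equiv.symm (this y hy))

end DSRing

end Cfsg.Agent.Perm.DihedralB
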