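import Cfsg.Agent.Lib.Perm.DihedralB.Periodic

/-!
# Two classes in a rational primitive Schur ring multiply to a nearly constant element
-/

set_option autoImplicit false
set_option linter.unusedSectionVars false

namespace Cfsg.Agent.Perm.DihedralB

open DihedralGroup Finset

variable {m : ℕ} [NeZero m]

namespace DSRing

variable {S : DSRing m} {p : ℕ}

/-- The choice of the prime and of an element of that order. -/
structure Pick (p : ℕ) (h : ZMod m) : Prop where
  prime : p.Prime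
  order : addOrderOf h = p
  two : p = 2 → ∃ a, m = 2 ^ a

theorem exists_pick (hm : 2 ≤ m) : ∃ p, ∃ h : ZMod m, Pick p h := by
  have hpick : ∀ p, p.Prime → p ∣ m → ∃ h : ZMod m, addOrderOf h = p := fun p hp hd => by
    haveI : Fact p.Prime := ⟨hp⟩
    exact exists_prime_addOrderOf_dvd_card' (G := ZMod m) p (by rwa [Nat.card_zmod])
  by_cases hodd : ∃ p, p.Prime ∧ p ∣ m ∧ p ≠ 2
  · obtain ⟨p, hp, hd, hp2⟩ := hodd
    obtain ⟨h, hh⟩ := hpick p hp hd
    exact ⟨p, h, hp, hh, fun e => absurd e hp2⟩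
  · push Not at hodd
    have h2 : 2 ∣ m := by
      obtain ⟨q, hq, hqd⟩ := Nat.exists_prime_and_dvd (n := m) (by omega)
      exact hodd q hq hqd ▸ hqd
    obtain ⟨h, hh⟩ := hpick 2 Nat.prime_two h2
    exact ⟨2, h, Nat.prime_two, hh, fun _ => ⟨_, Nat.eq_prime_pow_of_unique_prime_dvd (by omega)
      fun {d} hd hdd => hodd d hd hdd⟩⟩

variable {h : ZMod m}

theorem rel_coset (hrat : S.IsRatl) (hp : p.Prime) (hh : addOrderOf h = p) {k : ZMod m}
    (hk : PFree p k) {c : ℕ} (hc : ¬ p ∣ c) : S.rel (r (k + h)) (r (k + c • h)) := by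
  have hnp : (addOrderOf k).Coprime p := Nat.coprime_comm.1 ((hp.coprime_iff_not_dvd).2 hk)
  obtain ⟨w, hw1, hw2⟩ := Nat.chineseRemainder hnp 1 c
  have hord : addOrderOf (k + h) ∣ addOrderOf k * p := by
    refine addOrderOf_dvd_of_nsmul_eq_zero ?_
    rw [nsmul_add, mul_nsmul' h, ← hh, addOrderOf_nsmul_eq_zero, smul_zero, add_zero, mul_nsmul,
      addOrderOf_nsmul_eq_zero, smul_zero]
  have hwcop : w.Coprime (addOrderOf (k + h)) := by
    refine Nat.Coprime.coprime_dvd_right hord (Nat.Coprime.mul_right ?_ ?_)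
    · rw [Nat.coprime_comm, Nat.Coprime, Nat.gcd_comm, hw1.gcd_eq, Nat.gcd_one_left]
    · rw [Nat.coprime_comm, Nat.Coprime, Nat.gcd_comm, hw2.gcd_eq]
      exact Nat.coprime_comm.1 ((hp.coprime_iff_not_dvd).2 hc)
  have := rel_smul hrat hwcop
  have heq : w • (k + h) = k + c • h := by
    rw [nsmul_add]
    congr 1
    · conv_rhs => rw [← one_nsmul k]
      exact nsmul_eq_nsmul_iff_modEq.2 hw1
    · refine nsmul_eq_nsmul_iff_modEq.2 ?_
      rwa [hh]
  rwa [heq] at this

theorem rel_all_coset (hm : 2 ≤ m) (hrat : S.IsRatl) (hp : p.Prime) (hp2 : p ≠ 2)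
    (hh : addOrderOf h = p) {k : ZMod m} (hk : PFree p k) (hk0 : k ≠ 0) (c : ℕ) :
    S.rel (r k) (r (k + c • h)) := by
  by_cases hc : p ∣ c
  · obtain ⟨d, rfl⟩ := hc
    rw [← smul_smul, smul_kill hh, add_zero]
    exact S.equiv.refl _
  · exact S.equiv.trans (rel_pfree_add hm hrat hp hp2 hh hk hk0) (rel_coset hrat hp hh hk hc)

/-- Periodicity outside the subgroup generated by `h`. -/
theorem rel_add (hm : 2 ≤ m) (hrat : S.IsRatl) (hP : Pick p h) {k : ZMod m}
    (hk : ∀ c : ℕ, k ≠ c • h) : S.rel (r k) (r (k + h)) := by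
  have hp := hP.prime
  have hh := hP.order
  have hkill : p • h = 0 := hh ▸ addOrderOf_nsmul_eq_zero h
  have hnk : p • k ≠ 0 := fun e => by
    obtain ⟨c, -, hc⟩ := exists_smul_eq hp hh e
    exact hk c hc
  by_cases hsq : p * p ∣ addOrderOf k
  · exact rel_add_of_sq hrat hp hkill hsq
  by_cases hp2 : p = 2
  · obtain ⟨a, ha⟩ := hP.two hp2
    exfalso
    have hd : addOrderOf k ∣ 2 ^ a := by
      have := addOrderOf_dvd_natCard k
      rw [Nat.card_zmod] at this
      exact this.trans ha.dvd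
    obtain ⟨i, -, hi⟩ := (Nat.dvd_prime_pow Nat.prime_two).1 hd
    subst hp2
    rcases le_or_gt i 1 with hi1 | hi1
    · exact hnk (addOrderOf_dvd_iff_nsmul_eq_zero.1 (hi ▸ (pow_dvd_pow 2 hi1).trans (by norm_num)))
    · exact hsq (hi ▸ pow_dvd_pow 2 hi1)
  have hk0 : k ≠ 0 := fun e => hk 0 (by simp [e])
  by_cases hkf : PFree p k
  · exact rel_pfree_add hm hrat hp hp2 hh hkf hk0
  obtain ⟨n', hn'⟩ : p ∣ addOrderOf k := not_not.1 hkf
  have hnp : n'.Coprime p :=
    Nat.coprime_comm.1 ((hp.coprime_iff_not_dvd).2 fun hd => hsq (hn' ▸ mul_dvd_mul_left p hd))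
  obtain ⟨z, hz1, hz2⟩ := Nat.chineseRemainder hnp 1 0
  have hz2' : p ∣ z := Nat.modEq_zero_iff_dvd.1 hz2
  have hk' : PFree p (z • k) := fun hd => by
    have h0 : n' • (z • k) = 0 := by
      obtain ⟨z', rfl⟩ := hz2'
      rw [smul_smul, show n' * (p * z') = (p * n') * z' by ring, ← hn', mul_nsmul,
        addOrderOf_nsmul_eq_zero, smul_zero]
    exact hp.ne_one (Nat.eq_one_of_dvd_coprimes hnp (hd.trans (addOrderOf_dvd_of_nsmul_eq_zero h0))
      dvd_rfl)
  have hkill' : p • (k - z • k) = 0 := by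
    rw [nsmul_sub, smul_smul, sub_eq_zero]
    refine nsmul_eq_nsmul_iff_modEq.2 ?_
    rw [hn']
    simpa using ((hz1.mul_left' p).symm)
  obtain ⟨c, -, hc⟩ := exists_smul_eq hp hh hkill'
  have hk'0 : z • k ≠ 0 := fun e => hk c (by rw [e, sub_zero] at hc; exact hc)
  have hkeq : k = z • k + c • h := by rw [← hc]; abel
  have h1 := rel_all_coset hm hrat hp hp2 hh hk' hk'0 c
  have h2 := rel_all_coset hm hrat hp hp2 hh hk' hk'0 (c + 1)
  rw [succ_nsmul, ← add_assoc, ← hkeq] at h2
  rw [← hkeq] at h1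
  exact S.equiv.trans (S.equiv.symm h1) h2

theorem rel_multiple (hrat : S.IsRatl) (hP : Pick p h) {c : ℕ} (hc : c • h ≠ 0) :
    S.rel (r h) (r (c • h)) := by
  refine rel_smul hrat ?_
  rw [hP.order, Nat.coprime_comm]
  refine hP.prime.coprime_iff_not_dvd.2 fun hd => hc ?_
  obtain ⟨d, rfl⟩ := hd
  rw [← smul_smul, smul_kill hP.order]

/-- Classes other than the trivial one and that of `r h`. -/
def Other (S : DSRing m) (h : ZMod m) (x : DihedralGroup m) : Prop :=
  x ≠ 1 ∧ ¬ S.rel x (r h)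

theorem periodic_r (hm : 2 ≤ m) (hrat : S.IsRatl) (hP : Pick p h) {a : DR m} (ha : a ∈ S.alg)
    (h1 : a.coeff 1 = a.coeff (r h)) (k : ZMod m) : a.coeff (r (k + h)) = a.coeff (r k) := by
  have hon : ∀ c : ℕ, a.coeff (r (c • h)) = a.coeff (r h) := fun c => by
    by_cases hc : c • h = 0
    · rw [hc, ← one_def, h1]
    · exact (ha _ _ (rel_multiple hrat hP hc)).symm
  by_cases hk : ∃ c : ℕ, k = c • h
  · obtain ⟨c, rfl⟩ := hk
    rw [← succ_nsmul, hon, hon]
  · push Not at hk
    exact (ha _ _ (rel_add hm hrat hP hk)).symm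

theorem ind_periodic (hm : 2 ≤ m) (hrat : S.IsRatl) (hP : Pick p h) {x : DihedralGroup m}
    (hx : Other S h x) (k : ZMod m) : (S.ind x).coeff (r (k + h)) = (S.ind x).coeff (r k) := by
  refine periodic_r hm hrat hP (S.ind_mem x) ?_ k
  rw [S.coeff_ind_neg hx.2, S.coeff_ind_neg fun e => hx.1 (S.one x (S.equiv.symm e))]

/-- The product of two other classes is a combination of one and the all-one element. -/
theorem other_mul (hm : 2 ≤ m) (hrat : S.IsRatl) (hP : Pick p h) {x y : DihedralGroup m}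
    (hx : Other S h x) (hy : Other S h y) :
    ∃ κ l : ℤ, (S.ind x * S.ind y).coeff 1 = κ + l ∧
      ∀ g : DihedralGroup m, g ≠ 1 → (S.ind x * S.ind y).coeff g = l := by
  classical
  set q := S.ind x * S.ind y with hq
  have hqm : q ∈ S.alg := mul_mem (S.ind_mem x) (S.ind_mem y)
  set a : DR m := mkD fun g => if g = 1 then q.coeff (r h) else q.coeff g with hadef
  have hh0 : h ≠ 0 := fun e => hP.prime.ne_one (by rw [← hP.order, e, addOrderOf_zero])
  have hrh : (r h : DihedralGroup m) ≠ 1 := fun e => hh0 (r.inj (e.trans one_def))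
  have ham : a ∈ S.alg := fun g g' hgg => by
    have h1 := S.eq_one_iff hgg
    by_cases hg : g = 1
    · simp [hadef, hg, h1.1 hg]
    · have hg' : ¬ g' = 1 := fun e => hg (h1.2 e)
      simp [hadef, hg, hg', hqm g g' hgg]
  have hr : ∀ k, a.coeff (r (k + h)) = a.coeff (r k) :=
    periodic_r hm hrat hP ham (by simp [hadef, hrh])
  have hper : ∀ (u v : CR m), (∀ k, u.coeff (k + h) = u.coeff k) →
      ∀ k, (u * v).coeff (k + h) = (u * v).coeff k := by
    intro u v hu k
    rw [coeff_mul_cr, coeff_mul_cr]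
    refine (Fintype.sum_equiv (Equiv.addRight h) _ _ fun i => ?_).symm
    simp [hu]
  have hX : ∀ {z}, Other S h z → ∀ k, (cP (S.ind z)).coeff (k + h) = (cP (S.ind z)).coeff k :=
    fun {z} hz k => by simpa using ind_periodic hm hrat hP hz k
  have hs : ∀ k, a.coeff (sr (k + h)) = a.coeff (sr k) := by
    intro k
    have hne : ∀ i : ZMod m, (sr i : DihedralGroup m) ≠ 1 := fun i e => by
      rw [one_def] at e; cases e
    simp only [hadef, coeff_mkD, if_neg (hne _)]
    rw [← coeff_sP, ← coeff_sP, hq, sP_mul, refl_cP (S.ind_mem x)]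
    rw [AddMonoidAlgebra.coeff_add, Finsupp.add_apply, Finsupp.add_apply,
      hper _ _ (hX hx), mul_comm (sP (S.ind x)), hper _ _ (hX hy)]
  -- the translation stabiliser
  let K : Subgroup (DihedralGroup m) :=
    { carrier := {z | ∀ g, a.coeff (z * g) = a.coeff g}
      one_mem' := fun g => by simp
      mul_mem' := fun {u v} hu hv g => by rw [mul_assoc, hu, hv]
      inv_mem' := fun {u} hu g => by rw [← hu (u⁻¹ * g), mul_inv_cancel_left] }
  have hhK : r h ∈ K := by
    intro g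
    rcases g with k | k
    · rw [r_mul_r, add_comm]; exact hr k
    · rw [r_mul_sr, ← hs (k - h), sub_add_cancel]
  have hunion : ∀ u v, S.rel u v → u ∈ K → v ∈ K := by
    intro u v huv hu
    have hsum : ∀ z, (a * a).coeff z = ∑ w, a.coeff w * a.coeff (z⁻¹ * w) := fun z => by
      rw [coeff_mul_dr]
      refine Finset.sum_congr rfl fun w _ => ?_
      rw [← coeff_inv ham (w⁻¹ * z), mul_inv_rev, inv_inv]
    have h2 := S.conv a a ham ham u v huv
    rw [hsum, hsum] at h2
    have hu' : u⁻¹ ∈ K := K.inv_mem hu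
    rw [Finset.sum_congr rfl (fun w _ => by rw [hu' w])] at h2
    have h3 : ∑ w, a.coeff (v⁻¹ * w) * a.coeff (v⁻¹ * w) = ∑ w, a.coeff w * a.coeff w :=
      Fintype.sum_equiv (Equiv.mulLeft v⁻¹) _ _ fun w => rfl
    have h4 : ∑ w, (a.coeff w - a.coeff (v⁻¹ * w)) ^ 2 = 0 := by
      simp only [sub_sq, Finset.sum_add_distrib, Finset.sum_sub_distrib, mul_assoc,
        ← Finset.mul_sum]
      simp only [pow_two]
      rw [h3, ← h2]; ring
    rw [Finset.sum_eq_zero_iff_of_nonneg (fun w _ => sq_nonneg _)] at h4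
    have hv : v⁻¹ ∈ K := fun w =>
      (sub_eq_zero.1 (pow_eq_zero_iff two_ne_zero |>.1 (h4 w (Finset.mem_univ _)))).symm
    simpa using K.inv_mem hv
  rcases S.prim K hunion with hb | ht
  · exact absurd (Subgroup.mem_bot.1 (hb ▸ hhK)) hrh
  have hconst : ∀ g, a.coeff g = q.coeff (r h) := fun g => by
    have : g ∈ K := ht ▸ Subgroup.mem_top g
    have h1 := this 1
    rw [mul_one] at h1
    simpa [hadef] using h1
  refine ⟨q.coeff 1 - q.coeff (r h), q.coeff (r h), by ring, fun g hg => ?_⟩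
  simpa [hadef, hg] using hconst g

end DSRing

end Cfsg.Agent.Perm.DihedralB
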