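import Cfsg.Agent.Lib.Perm.DihedralB.Reduce

/-!
# Wielandt: dihedral groups are B-groups
-/

set_option autoImplicit false
set_option linter.unusedSectionVars false

namespace Cfsg.Agent.Perm.DihedralB

open DihedralGroup Finset MulAction
open scoped Pointwise

variable {G Ω : Type*} [Group G] [MulAction G Ω] {m : ℕ} [NeZero m]

/-- The suborbit relation transported to the regular subgroup. -/
def OrbRel (ι : DihedralGroup m →* G) (a : Ω) (x y : DihedralGroup m) : Prop :=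
  ∃ g : G, g • a = a ∧ g • ι x • a = ι y • a

variable (ι : DihedralGroup m →* G) (a : Ω) (hbij : Function.Bijective fun x => ι x • a)

include hbij in
theorem orbRel_conv (f₁ f₂ : DR m) (h1 : Const (OrbRel ι a) f₁) (h2 : Const (OrbRel ι a) f₂) :
    Const (OrbRel ι a) (f₁ * f₂) := by
  rintro x y ⟨g, hga, hgx⟩
  let e := Equiv.ofBijective _ hbij
  let π : DihedralGroup m ≃ DihedralGroup m := e.trans ((MulAction.toPerm g).trans e.symm)
  have hπ : ∀ z, ι (π z) • a = g • ι z • a := fun z => e.apply_symm_apply _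
  rw [coeff_mul_dr, coeff_mul_dr]
  refine Fintype.sum_equiv π _ _ fun z => ?_
  rw [h1 z (π z) ⟨g, hga, (hπ z).symm⟩]
  congr 1
  refine h2 _ _ ⟨(ι (π z))⁻¹ * g * ι z, ?_, ?_⟩
  · rw [mul_smul, mul_smul, ← hπ, inv_smul_smul]
  · rw [mul_smul, mul_smul, map_mul, map_mul, map_inv, map_inv, mul_smul, mul_smul, smul_inv_smul,
      hgx]

include hbij in
/-- The Schur ring of a primitive group with a regular dihedral subgroup. -/
theorem exists_dsring (hprim : IsPreprimitive G Ω) :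
    ∃ S : DSRing m, S.rel = OrbRel ι a := by
  classical
  refine ⟨⟨OrbRel ι a, ⟨fun x => ⟨1, one_smul _ _, one_smul _ _⟩, ?_, ?_⟩, ?_, ?_,
    orbRel_conv ι a hbij, ?_⟩, rfl⟩
  · rintro x y ⟨g, hga, hgx⟩
    exact ⟨g⁻¹, inv_smul_eq_iff.2 hga.symm, inv_smul_eq_iff.2 hgx.symm⟩
  · rintro x y z ⟨g, hga, hgx⟩ ⟨g', hga', hgy⟩
    exact ⟨g' * g, by rw [mul_smul, hga, hga'], by rw [mul_smul, hgx, hgy]⟩
  · rintro x ⟨g, hga, hgx⟩
    rw [map_one, one_smul, hga] at hgx
    exact (hbij.1 (by simpa using hgx.symm))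
  · rintro x y ⟨g, hga, hgx⟩
    refine ⟨(ι y)⁻¹ * g * ι x, ?_, ?_⟩
    · rw [mul_smul, mul_smul, hgx, inv_smul_smul]
    · rw [mul_smul, mul_smul, map_inv, map_inv, smul_inv_smul, hga]
  · intro K hK
    have hblock : IsBlock G ((fun x => ι x • a) '' (K : Set (DihedralGroup m))) := by
      rw [isBlock_iff_smul_eq_of_nonempty]
      rintro g ⟨z, ⟨w, ⟨k₁, hk₁, rfl⟩, hw⟩, ⟨k₂, hk₂, rfl⟩⟩
      simp only at hw
      set h : G := (ι k₂)⁻¹ * g * ι k₁ with hh
      have hha : h • a = a := by rw [hh, mul_smul, mul_smul, hw, inv_smul_smul]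
      have hpres : ∀ k ∈ K, ∃ k' ∈ K, h • ι k • a = ι k' • a := fun k hk => by
        obtain ⟨k', hk'⟩ := hbij.2 (h • ι k • a)
        exact ⟨k', hK k k' ⟨h, hha, hk'.symm⟩ hk, hk'.symm⟩
      refine Set.eq_of_subset_of_ncard_le (t := (fun x => ι x • a) '' (K : Set (DihedralGroup m)))
        ?_ (by rw [Set.ncard_smul_set]) (Set.toFinite _)
      rintro _ ⟨_, ⟨k, hk, rfl⟩, rfl⟩
      obtain ⟨k', hk', he⟩ := hpres (k₁⁻¹ * k) (mul_mem (inv_mem hk₁) hk)
      refine ⟨k₂ * k', mul_mem hk₂ hk', ?_⟩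
      simp only
      rw [map_mul, mul_smul, ← he, hh, map_mul, map_inv]
      simp only [mul_smul, smul_inv_smul]
    rcases hprim.isTrivialBlock_of_isBlock hblock with hs | hu
    · left
      rw [Subgroup.eq_bot_iff_forall]
      intro k hk
      exact hbij.1 (hs ⟨k, hk, rfl⟩ ⟨1, one_mem K, rfl⟩)
    · right
      rw [Subgroup.eq_top_iff']
      intro k
      obtain ⟨k', hk', he⟩ := (Set.eq_univ_iff_forall.1 hu) (ι k • a)
      rwa [← hbij.1 he]

/-- A primitive group with a regular dihedral subgroup is doubly transitive. -/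
theorem two_transitive (hprim : IsPreprimitive G Ω) (e : DihedralGroup m →* G)
    (hb : ∀ b : Ω, Function.Bijective fun x => e x • b) : IsMultiplyPretransitive G Ω 2 := by
  classical
  rw [is_two_pretransitive_iff]
  intro b c b' c' hbc hbc'
  obtain ⟨x, hx⟩ := (hb b).2 b'
  simp only at hx
  have key : ∀ c₁ c₂ : Ω, c₁ ≠ b → c₂ ≠ b → ∃ g : G, g • b = b ∧ g • c₁ = c₂ := by
    intro c₁ c₂ h1 h2
    obtain ⟨x₁, rfl⟩ := (hb b).2 c₁
    obtain ⟨x₂, rfl⟩ := (hb b).2 c₂
    have hx1 : x₁ ≠ 1 := fun e' => h1 (by simp [e'])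
    have hx2 : x₂ ≠ 1 := fun e' => h2 (by simp [e'])
    by_cases hm : 2 ≤ m
    · obtain ⟨S, hS⟩ := exists_dsring e b (hb b) hprim
      have h := DSRing.trivial_of_primitive (S := S) hm hx1 hx2
      rw [hS] at h
      exact h
    · have hcard : Fintype.card (DihedralGroup m) = 2 := by
        rw [DihedralGroup.card]
        have := NeZero.ne m
        omega
      have h12 : x₁ = x₂ := by
        by_contra hne
        have h3 : ({1, x₁, x₂} : Finset (DihedralGroup m)).card ≤ 2 :=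
          hcard ▸ Finset.card_le_univ _
        rw [Finset.card_eq_three.2 ⟨1, x₁, x₂, Ne.symm hx1, Ne.symm hx2, hne, rfl⟩] at h3
        omega
      exact ⟨1, one_smul _ _, by rw [h12, one_smul]⟩
  have hc' : (e x)⁻¹ • c' ≠ b := fun e' => hbc' (by rw [← hx, ← e', smul_inv_smul])
  obtain ⟨g, hg1, hg2⟩ := key c ((e x)⁻¹ • c') hbc.symm hc'
  exact ⟨e x * g, by rw [mul_smul, hg1, hx], by rw [mul_smul, hg2, smul_inv_smul]⟩

end Cfsg.Agent.Perm.DihedralB
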