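import Cfsg.Agent.Lib.Perm.DihedralB.Power

/-!
# In a rational primitive Schur ring the classes are periodic
-/

set_option autoImplicit false
set_option linter.unusedSectionVars false

namespace Cfsg.Agent.Perm.DihedralB

open DihedralGroup Finset

variable {m : ℕ} [NeZero m]

theorem exists_inv_mod {p n : ℕ} (h : p.Coprime n) (hn : 0 < n) : ∃ c, p * c ≡ 1 [MOD n] := by
  refine ⟨p ^ (n.totient - 1), ?_⟩
  rw [← pow_succ', Nat.sub_add_cancel (Nat.totient_pos.2 hn)]
  exact Nat.ModEq.pow_totient h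

theorem smul_kill {p : ℕ} {h : ZMod m} (hh : addOrderOf h = p) (c : ℕ) : p • (c • h) = 0 := by
  subst hh
  rw [smul_smul, mul_comm, ← smul_smul, addOrderOf_nsmul_eq_zero, smul_zero]

/-- Elements killed by a prime are multiples of any element of that order. -/
theorem exists_smul_eq {p : ℕ} (hp : p.Prime) {y : ZMod m} (hy : addOrderOf y = p) {x : ZMod m}
    (hx : p • x = 0) : ∃ c, c < p ∧ x = c • y := by
  classical
  set f : Fin p → ZMod m := fun c => (c : ℕ) • y
  have hf : Function.Injective f := fun a b hab => Fin.ext (by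
    have := (nsmul_eq_nsmul_iff_modEq).1 hab
    rw [hy] at this
    exact Nat.ModEq.eq_of_lt_of_lt this a.2 b.2)
  have hle : (univ.filter fun z : ZMod m => p • z = 0).card ≤ p :=
    IsAddCyclic.card_nsmul_eq_zero_le hp.pos
  have hsub : Finset.image f univ ⊆ univ.filter fun z : ZMod m => p • z = 0 := by
    intro z hz
    obtain ⟨c, -, rfl⟩ := Finset.mem_image.1 hz
    simp only [mem_filter, mem_univ, true_and, f]
    exact smul_kill hy _
  have heq := Finset.eq_of_subset_of_card_le hsub (by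
    rw [Finset.card_image_of_injective _ hf, Finset.card_univ, Fintype.card_fin]; exact hle)
  have hxm : x ∈ univ.filter fun z : ZMod m => p • z = 0 := Finset.mem_filter.2 ⟨mem_univ _, hx⟩
  rw [← heq] at hxm
  obtain ⟨c, -, hc⟩ := Finset.mem_image.1 hxm
  exact ⟨c, c.2, hc.symm⟩

/-- A multiple by a number prime to the order is a multiple by a unit. -/
theorem exists_unit_smul {n : ℕ} {i : ZMod m} (h : n.Coprime (addOrderOf i)) :
    ∃ u : (ZMod m)ˣ, (u : ZMod m) * i = n • i := by
  have hd : addOrderOf i ∣ m := by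
    have := addOrderOf_dvd_natCard i
    rwa [Nat.card_zmod] at this
  obtain ⟨u, hu⟩ := ZMod.unitsMap_surjective hd (ZMod.unitOfCoprime n h)
  refine ⟨u, ?_⟩
  have hu' : ((u : ZMod m).cast : ZMod (addOrderOf i)) = (n : ZMod (addOrderOf i)) := by
    have := congrArg Units.val hu
    rwa [ZMod.unitsMap_def, Units.coe_map, ZMod.coe_unitOfCoprime] at this
  rw [← ZMod.natCast_val, ZMod.natCast_eq_natCast_iff] at hu'
  calc (u : ZMod m) * i = ((u : ZMod m).val : ZMod m) * i := by rw [ZMod.natCast_zmod_val]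
    _ = (u : ZMod m).val • i := (nsmul_eq_mul _ _).symm
    _ = n • i := nsmul_eq_nsmul_iff_modEq.2 hu'

/-- A sum over the preimages of a multiple. -/
theorem sum_preimage {M : Type*} [AddCommMonoid M] {p : ℕ} (hp : p.Prime) {h : ZMod m}
    (hh : addOrderOf h = p) (i₀ : ZMod m) (f : ZMod m → M) :
    (∑ i, if p • i = p • i₀ then f i else 0) = ∑ c ∈ Finset.range p, f (i₀ + c • h) := by
  classical
  rw [← Finset.sum_filter]
  symm
  refine Finset.sum_bij (fun c _ => i₀ + c • h) ?_ ?_ ?_ (fun _ _ => rfl)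
  · intro c _
    simp only [mem_filter, mem_univ, true_and]
    rw [nsmul_add, smul_kill hh, add_zero]
  · intro a ha b hb hab
    have := (nsmul_eq_nsmul_iff_modEq).1 (add_left_cancel hab)
    rw [hh] at this
    exact Nat.ModEq.eq_of_lt_of_lt this (Finset.mem_range.1 ha) (Finset.mem_range.1 hb)
  · intro z hz
    simp only [mem_filter, mem_univ, true_and] at hz
    obtain ⟨c, hc, hz'⟩ := exists_smul_eq hp hh (x := z - i₀) (by rw [nsmul_sub, hz, sub_self])
    exact ⟨c, Finset.mem_range.2 hc, by rw [← hz', add_sub_cancel]⟩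

theorem pfree_zero {p : ℕ} (hp : p.Prime) : PFree p (0 : ZMod m) := by simp [PFree, hp.ne_one]

theorem pfree_smul {p : ℕ} {a : ZMod m} (n : ℕ) (ha : PFree p a) : PFree p (n • a) := fun h =>
  ha (h.trans (addOrderOf_dvd_of_nsmul_eq_zero (by
    rw [nsmul_left_comm, addOrderOf_nsmul_eq_zero, smul_zero])))

namespace DSRing

variable (S : DSRing m)

/-- Rationality: units preserve the classes. -/
def IsRatl : Prop := ∀ (u : (ZMod m)ˣ) (i : ZMod m), S.rel (r i) (r ((u : ZMod m) * i))

variable {S}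

theorem rel_smul (hrat : S.IsRatl) {n : ℕ} {i : ZMod m} (h : n.Coprime (addOrderOf i)) :
    S.rel (r i) (r (n • i)) := by
  obtain ⟨u, hu⟩ := exists_unit_smul h
  have := hrat u i
  rwa [hu] at this

/-- Elements supported on `p`-free rotations. -/
def PSupp (p : ℕ) (a : DR m) : Prop := ∀ k : ZMod m, ¬ PFree p k → a.coeff (r k) = 0

variable {p : ℕ}

theorem coeff_smul_of_psupp (hrat : S.IsRatl) (hp : p.Prime) {a : DR m} (ha : a ∈ S.alg) {k : ZMod m}
    (hk : PFree p k) : a.coeff (r (p • k)) = a.coeff (r k) :=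
  (ha _ _ (rel_smul hrat ((hp.coprime_iff_not_dvd).2 hk))).symm

theorem phi_psupp (hrat : S.IsRatl) (hp : p.Prime) {a : DR m} (ha : a ∈ S.alg) (hs : PSupp p a) :
    phi p (cP a) = cP a := by
  classical
  refine cr_ext fun k => ?_
  rw [coeff_phi, coeff_cP]
  by_cases hk : PFree p k
  · obtain ⟨c, hc⟩ := exists_inv_mod ((hp.coprime_iff_not_dvd).2 hk) (addOrderOf_pos k)
    have hck : p • (c • k) = k := by
      rw [smul_smul]
      conv_rhs => rw [← one_nsmul k]
      exact nsmul_eq_nsmul_iff_modEq.2 hc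
    rw [Finset.sum_eq_single (c • k)]
    · rw [if_pos hck, coeff_cP, ← coeff_smul_of_psupp hrat hp ha (pfree_smul c hk), hck]
    · intro i _ hi
      split_ifs with h
      · rw [coeff_cP]
        refine hs i fun hif => hi ?_
        have hz : p • (i - c • k) = 0 := by rw [nsmul_sub, h, hck, sub_self]
        have hd := addOrderOf_dvd_of_nsmul_eq_zero hz
        rcases (Nat.dvd_prime hp).1 hd with h1 | h1
        · rwa [AddMonoid.addOrderOf_eq_one_iff, sub_eq_zero] at h1
        · exfalso
          have hsub : PFree p (i - c • k) := by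
            rw [sub_eq_add_neg]
            refine pfree_add hp hif ?_
            simpa [PFree] using pfree_smul c hk
          exact hsub (by rw [h1])
      · rfl
    · simp
  · rw [hs k hk]
    refine Finset.sum_eq_zero fun i _ => ?_
    split_ifs with h
    · rw [coeff_cP]
      exact hs i fun hif => hk (h ▸ pfree_smul p hif)
    · rfl

theorem pow_sub_dvd (hm : 2 ≤ m) (hrat : S.IsRatl) (hp : p.Prime) (hp2 : p ≠ 2) (a : S.alg)
    (hs : PSupp p (a : DR m)) (i : ℕ) : (p : S.alg) ∣ a ^ p ^ i - a := by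
  have h1 : (p : S.alg) ∣ a ^ p - a := by
    refine dvd_of_cP hm _ ?_
    rw [AddSubgroupClass.coe_sub, SubmonoidClass.coe_pow, cP_sub]
    have h2 := dvd_add (cP_pow_prime_dvd a.2 hp hp2) (frob hp (cP (a : DR m)))
    rw [phi_psupp hrat hp a.2 hs, sub_add_sub_cancel] at h2
    exact h2
  induction i with
  | zero => simp
  | succ i ih =>
    rw [pow_succ, pow_mul]
    have := dvd_add (ih.trans (sub_dvd_pow_sub_pow (a ^ p ^ i) a p)) h1
    rwa [sub_add_sub_cancel] at this

/-- Supported on `p`-free rotations modulo `p ^ n`. -/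
def Good (hp : p.Prime) (n : ℕ) (x : S.alg) : Prop := cP (x : DR m) ∈ lev hp n

theorem good_split (hm : 2 ≤ m) {hp : p.Prime} {n : ℕ} {x : S.alg} (hx : Good hp n x) :
    ∃ y c : S.alg, PSupp p (y : DR m) ∧ x = y + ((p ^ n : ℕ) : S.alg) * c := by
  classical
  let f : DihedralGroup m → ℤ := fun g =>
    if ∀ k, S.rel g (r k) → PFree p k then (x : DR m).coeff g else 0
  have hf : Const S.rel (mkD f) := fun g g' hgg => by
    have hiff : (∀ k, S.rel g (r k) → PFree p k) ↔ (∀ k, S.rel g' (r k) → PFree p k) :=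
      ⟨fun h k hk => h k (S.equiv.trans hgg hk),
        fun h k hk => h k (S.equiv.trans (S.equiv.symm hgg) hk)⟩
    simp [f, hiff, x.2 g g' hgg]
  have hy : PSupp p (mkD f) := fun k hk => by
    simp only [coeff_mkD, f]
    rw [if_neg fun h => hk (h k (S.equiv.refl _))]
  obtain ⟨c, hc⟩ : ((p ^ n : ℕ) : S.alg) ∣ x - ⟨mkD f, hf⟩ := by
    refine dvd_of_cP hm _ (natCast_dvd_cr.2 fun k => ?_)
    simp only [AddSubgroupClass.coe_sub, cP_sub, AddMonoidAlgebra.coeff_sub, Finsupp.sub_apply,
      coeff_cP, coeff_mkD, f]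
    split_ifs with h
    · simp
    · push Not at h
      obtain ⟨k', hk', hkf⟩ := h
      rw [sub_zero, x.2 _ _ hk']
      simpa using hx k' hkf
  exact ⟨⟨mkD f, hf⟩, c, hy, by rw [← hc]; abel⟩

theorem good_of_dvd {hp : p.Prime} {n : ℕ} (x : S.alg) : Good hp n (((p ^ n : ℕ) : S.alg) * x) := by
  refine dvd_mem_lev ?_
  rw [Subring.coe_mul, SubringClass.coe_natCast, cP_natCast_mul]
  exact dvd_mul_right _ _

theorem good_add {hp : p.Prime} {n : ℕ} {x y : S.alg} (hx : Good hp n x) (hy : Good hp n y) :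
    Good hp n (x + y) := by
  unfold Good
  rw [Subring.coe_add, cP_add]
  exact add_mem hx hy

theorem good_mul_of (hm : 2 ≤ m) {hp : p.Prime} {n : ℕ}
    (H : ∀ a b : S.alg, PSupp p (a : DR m) → PSupp p (b : DR m) → Good hp n (a * b))
    {x y : S.alg} (hx : Good hp n x) (hy : Good hp n y) : Good hp n (x * y) := by
  obtain ⟨a, c, ha, rfl⟩ := good_split hm hx
  obtain ⟨b, d, hb, rfl⟩ := good_split hm hy
  have : (a + ((p ^ n : ℕ) : S.alg) * c) * (b + ((p ^ n : ℕ) : S.alg) * d) =
      a * b + ((p ^ n : ℕ) : S.alg) * (a * d + c * b + ((p ^ n : ℕ) : S.alg) * (c * d)) := by ring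
  rw [this]
  exact good_add (H a b ha hb) (good_of_dvd _)

theorem good_mul (hm : 2 ≤ m) (hrat : S.IsRatl) (hp : p.Prime) (hp2 : p ≠ 2) (n : ℕ) :
    ∀ a b : S.alg, PSupp p (a : DR m) → PSupp p (b : DR m) → Good hp n (a * b) := by
  induction n with
  | zero => intro a b _ _ k _; simp
  | succ n ih =>
    intro a b ha hb
    set N := p ^ (m.factorization p + n) with hN
    have hpow : ∀ x : S.alg, Good hp (n + 1) (x ^ N) := fun x => by
      unfold Good
      rw [SubmonoidClass.coe_pow]
      exact (cP_pow_mem_lev x.2 hp hp2 n).1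
    have hlower : ∀ x : S.alg, Good hp (n + 1) x → Good hp n x := fun x hx k hk =>
      (Int.natCast_dvd_natCast.2 (pow_dvd_pow p (Nat.le_succ n))).trans (hx k hk)
    have hrest : ∀ z : S.alg, PSupp p (z : DR m) →
        ∃ z₁ : S.alg, z = z ^ N + (p : S.alg) * z₁ ∧ Good hp n z₁ := by
      intro z hz
      obtain ⟨c, hc⟩ := pow_sub_dvd hm hrat hp hp2 z hz (m.factorization p + n)
      refine ⟨-c, by rw [mul_neg, ← hc]; ring, fun k hk => ?_⟩
      have h1 : ((p ^ (n + 1) : ℕ) : ℤ) ∣
          (cP (((p : S.alg) * c : S.alg) : DR m)).coeff k := by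
        rw [← hc, AddSubgroupClass.coe_sub, cP_sub, AddMonoidAlgebra.coeff_sub, Finsupp.sub_apply,
          coeff_cP (z : DR m) k, hz k hk, sub_zero]
        exact hpow z k hk
      rw [Subring.coe_mul, SubringClass.coe_natCast, cP_natCast_mul, natCast_mul_coeff_cr,
        pow_succ', Nat.cast_mul] at h1
      have h2 := (mul_dvd_mul_iff_left (Int.natCast_ne_zero.2 hp.ne_zero)).1 h1
      simpa using h2
    obtain ⟨a₁, ha₁, hga⟩ := hrest a ha
    obtain ⟨b₁, hb₁, hgb⟩ := hrest b hb
    have key : a * b = (a * b) ^ N + (p : S.alg) *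
        (a ^ N * b₁ + a₁ * b ^ N + (p : S.alg) * (a₁ * b₁)) := by
      conv_lhs => rw [ha₁, hb₁]
      rw [mul_pow]
      ring
    have hin : Good hp n (a ^ N * b₁ + a₁ * b ^ N + (p : S.alg) * (a₁ * b₁)) := by
      refine good_add (good_add (good_mul_of hm ih (hlower _ (hpow a)) hgb)
        (good_mul_of hm ih hga (hlower _ (hpow b)))) ?_
      have h3 := good_mul_of hm ih hga hgb
      intro k hk
      rw [Subring.coe_mul, SubringClass.coe_natCast, cP_natCast_mul, natCast_mul_coeff_cr]
      exact (h3 k hk).mul_left _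
    rw [key]
    refine good_add (hpow _) ?_
    unfold Good at hin ⊢
    rw [Subring.coe_mul, SubringClass.coe_natCast, cP_natCast_mul]
    exact p_mul_mem_lev hin

theorem psupp_mul (hm : 2 ≤ m) (hrat : S.IsRatl) (hp : p.Prime) (hp2 : p ≠ 2) {a b : DR m}
    (ha : a ∈ S.alg) (hb : b ∈ S.alg) (hsa : PSupp p a) (hsb : PSupp p b) : PSupp p (a * b) := by
  intro k hk
  by_contra hne
  have h := good_mul hm hrat hp hp2 ((a * b).coeff (r k)).natAbs ⟨a, ha⟩ ⟨b, hb⟩ hsa hsb k hk
  rw [coeff_cP] at h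
  have h2 : p ^ ((a * b).coeff (r k)).natAbs ∣ ((a * b).coeff (r k)).natAbs :=
    Int.natCast_dvd.1 h
  have h3 := Nat.le_of_dvd (Int.natAbs_pos.2 hne) h2
  exact absurd h3 (not_le.2 (Nat.lt_pow_self hp.one_lt))

/-- Every non-trivial class contains a rotation of order divisible by `p`. -/
theorem exists_not_pfree (hm : 2 ≤ m) (hrat : S.IsRatl) (hp : p.Prime) (hp2 : p ≠ 2) {h : ZMod m}
    (hh : addOrderOf h = p) {x : DihedralGroup m} (hx : x ≠ 1) :
    ∃ k, S.rel x (r k) ∧ ¬ PFree p k := by
  by_contra hne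
  push Not at hne
  have hind : ∀ y : DihedralGroup m, (∀ k, S.rel y (r k) → PFree p k) → PSupp p (S.ind y) :=
    fun y hy k hk => S.coeff_ind_neg fun hr => hk (hy k hr)
  let U : Subgroup (DihedralGroup m) :=
    { carrier := {y | ∀ k, S.rel y (r k) → PFree p k}
      one_mem' := fun k hk => by
        have := S.one _ hk
        rw [one_def] at this
        rw [r.inj this]; exact pfree_zero hp
      inv_mem' := fun {y} hy k hk => hy k (S.equiv.trans (S.rel_inv_self y) hk)
      mul_mem' := fun {y z} hy hz k hk => by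
        by_contra hkf
        have h0 := psupp_mul hm hrat hp hp2 (S.ind_mem y) (S.ind_mem z) (hind y hy) (hind z hz) k hkf
        rw [← S.conv _ _ (S.ind_mem y) (S.ind_mem z) _ _ hk] at h0
        have hpos : 0 < (S.ind y * S.ind z).coeff (y * z) := by
          rw [coeff_mul_dr]
          refine Finset.sum_pos' (fun w _ => mul_nonneg (S.coeff_ind_nonneg _ _)
            (S.coeff_ind_nonneg _ _)) ⟨y, Finset.mem_univ _, ?_⟩
          rw [inv_mul_cancel_left, S.coeff_ind_pos (S.equiv.refl _),
            S.coeff_ind_pos (S.equiv.refl _)]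
          norm_num
        omega }
  rcases S.prim U (fun a b hab ha k hk => ha k (S.equiv.trans hab hk)) with hb | ht
  · exact hx (Subgroup.mem_bot.1 (hb ▸ (fun k hk => hne k hk : x ∈ U)))
  · have : (r h : DihedralGroup m) ∈ U := ht ▸ Subgroup.mem_top _
    exact this h (S.equiv.refl _) (hh ▸ dvd_rfl)

theorem rel_add_of_sq (hrat : S.IsRatl) (hp : p.Prime) {h k : ZMod m} (hh : p • h = 0)
    (hk : p * p ∣ addOrderOf k) : S.rel (r k) (r (k + h)) := by
  set n := addOrderOf k with hn
  obtain ⟨l, hl⟩ := hk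
  have hdiv : n / p = p * l := by rw [hl, mul_assoc, Nat.mul_div_cancel_left _ hp.pos]
  have hy : addOrderOf ((p * l) • k) = p := by
    haveI : Fact p.Prime := ⟨hp⟩
    refine addOrderOf_eq_prime ?_ fun h0 => ?_
    · rw [smul_smul, ← mul_assoc, ← hl]; exact addOrderOf_nsmul_eq_zero k
    · have hd := addOrderOf_dvd_of_nsmul_eq_zero h0
      rw [← hn, hl] at hd
      have hnpos : 0 < p * l := by
        rcases Nat.eq_zero_or_pos (p * l) with h' | h'
        · exfalso
          have : n = 0 := by rw [hl, mul_assoc, h', mul_zero]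
          exact (addOrderOf_pos k).ne' this
        · exact h'
      have := Nat.le_of_dvd hnpos hd
      rw [mul_assoc] at this
      nlinarith [hp.two_le]
  obtain ⟨c, -, hc⟩ := exists_smul_eq hp hy hh
  have hcop : (1 + c * (p * l)).Coprime (addOrderOf k) := by
    refine Nat.coprime_of_dvd fun q hq hq1 hq2 => ?_
    rw [← hn, hl] at hq2
    have hqpl : q ∣ p * l := by
      rcases hq.dvd_mul.1 hq2 with h' | h'
      · rcases hq.dvd_mul.1 h' with h'' | h'' <;> exact h''.mul_right l
      · exact h'.mul_left p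
    exact hq.ne_one (Nat.dvd_one.1 ((Nat.dvd_add_left (hqpl.mul_left c)).1 hq1))
  have := rel_smul hrat hcop
  rwa [add_nsmul, one_nsmul, ← smul_smul, ← hc] at this

theorem rel_pfree_add (hm : 2 ≤ m) (hrat : S.IsRatl) (hp : p.Prime) (hp2 : p ≠ 2) {h : ZMod m}
    (hh : addOrderOf h = p) {k : ZMod m} (hk : PFree p k) (hk0 : k ≠ 0) :
    S.rel (r k) (r (k + h)) := by
  classical
  by_contra hne
  have hkne : (r k : DihedralGroup m) ≠ 1 := fun e => hk0 (r.inj (e.trans one_def))
  obtain ⟨g, hg, hgf⟩ := exists_not_pfree hm hrat hp hp2 hh hkne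
  set a := S.ind (r k) with hadef
  have ha : a ∈ S.alg := S.ind_mem _
  have hcong : ∀ z, (p : ℤ) ∣ (a ^ p).coeff (r z) - (phi p (cP a)).coeff z := fun z => by
    have h1 := natCast_dvd_cr.1 (dvd_add (cP_pow_prime_dvd ha hp hp2) (frob hp (cP a))) z
    rwa [sub_add_sub_cancel, AddMonoidAlgebra.coeff_sub, Finsupp.sub_apply, coeff_cP] at h1
  -- at `g` the Frobenius image vanishes modulo `p`
  have hg0 : (p : ℤ) ∣ (phi p (cP a)).coeff g := by
    rw [coeff_phi]
    by_cases hex : ∃ i₀, p • i₀ = g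
    · obtain ⟨i₀, rfl⟩ := hex
      rw [sum_preimage hp hh i₀]
      have hconst : ∀ c : ℕ, (cP a).coeff (i₀ + c • h) = (cP a).coeff i₀ := by
        intro c
        have hsq : p * p ∣ addOrderOf i₀ := by
          have h1 : p ∣ addOrderOf (p • i₀) := not_not.1 hgf
          have h2 : p ∣ addOrderOf i₀ := h1.trans (addOrderOf_dvd_of_nsmul_eq_zero (by
            rw [nsmul_left_comm, addOrderOf_nsmul_eq_zero, smul_zero]))
          rw [addOrderOf_nsmul' i₀ hp.ne_zero, Nat.gcd_eq_right h2] at h1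
          exact (Nat.dvd_div_iff_mul_dvd h2).1 h1
        rw [coeff_cP, coeff_cP]
        exact (ha _ _ (rel_add_of_sq hrat hp (smul_kill hh c) hsq)).symm
      rw [Finset.sum_congr rfl (fun c _ => hconst c), Finset.sum_const, Finset.card_range,
        nsmul_eq_mul]
      exact dvd_mul_right _ _
    · push Not at hex
      rw [Finset.sum_eq_zero fun i _ => if_neg (hex i)]
      exact dvd_zero _
  -- at `p • k` it is congruent to one
  have hk1 : (phi p (cP a)).coeff (p • k) = 1 := by
    rw [coeff_phi, sum_preimage hp hh k, Finset.sum_eq_single 0]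
    · simp [hadef, S.coeff_ind_pos (S.equiv.refl (r k))]
    · intro c hc hc0
      rw [coeff_cP, hadef]
      refine S.coeff_ind_neg fun hrel => hne (S.equiv.trans hrel ?_)
      -- units move `k + c • h` to `k + h`
      have hcop : c.Coprime p :=
        (Nat.coprime_comm.1 ((hp.coprime_iff_not_dvd).2 fun hd =>
          hc0 (Nat.eq_zero_of_dvd_of_lt hd (Finset.mem_range.1 hc))))
      obtain ⟨d, hd⟩ := exists_inv_mod hcop hp.pos
      have hnp : (addOrderOf k).Coprime p := Nat.coprime_comm.1 ((hp.coprime_iff_not_dvd).2 hk)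
      obtain ⟨w, hw1, hw2⟩ := Nat.chineseRemainder hnp 1 d
      have hordd : addOrderOf (k + c • h) ∣ addOrderOf k * p := by
        refine addOrderOf_dvd_of_nsmul_eq_zero ?_
        rw [nsmul_add, mul_nsmul' (c • h), smul_kill hh, smul_zero, add_zero, mul_nsmul,
          addOrderOf_nsmul_eq_zero, smul_zero]
      have hwcop : w.Coprime (addOrderOf (k + c • h)) := by
        refine Nat.Coprime.coprime_dvd_right hordd (Nat.Coprime.mul_right ?_ ?_)
        · rw [Nat.coprime_comm, Nat.Coprime, Nat.gcd_comm, hw1.gcd_eq, Nat.gcd_one_left]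
        · rw [Nat.coprime_comm, Nat.Coprime, Nat.gcd_comm, hw2.gcd_eq]
          exact Nat.coprime_comm.1 (((hp.coprime_iff_not_dvd).2 fun hdd => by
            have : c * d ≡ 0 [MOD p] := Nat.modEq_zero_iff_dvd.2 (hdd.mul_left c)
            have h1 := hd.symm.trans this
            exact hp.ne_one (Nat.dvd_one.1 (Nat.modEq_zero_iff_dvd.1 h1))))
      have hrel' := rel_smul hrat hwcop
      have heq : w • (k + c • h) = k + h := by
        rw [nsmul_add, smul_smul]
        congr 1
        · conv_rhs => rw [← one_nsmul k]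
          exact nsmul_eq_nsmul_iff_modEq.2 hw1
        · conv_rhs => rw [← one_nsmul h]
          refine nsmul_eq_nsmul_iff_modEq.2 ?_
          rw [hh, mul_comm]
          exact (hw2.mul_left c).trans hd
      rwa [heq] at hrel'
    · simp [hp.ne_zero]
  have hkp : S.rel (r k) (r (p • k)) := rel_smul hrat ((hp.coprime_iff_not_dvd).2 hk)
  have heqc : (a ^ p).coeff (r (p • k)) = (a ^ p).coeff (r g) :=
    (pow_mem ha p) _ _ (S.equiv.trans (S.equiv.symm hkp) hg)
  have h1 := hcong (p • k)
  have h2 := dvd_add (hcong g) hg0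
  rw [sub_add_cancel] at h2
  rw [heqc, hk1] at h1
  have h3 := dvd_sub h2 h1
  rw [sub_sub_cancel] at h3
  exact hp.ne_one (Nat.dvd_one.1 (Int.natCast_dvd_natCast.1 h3))

end DSRing

end Cfsg.Agent.Perm.DihedralB
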