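import Cfsg.Agent.Lib.Perm.DihedralB.SRing

/-!
# High `p`-power powers in a dihedral Schur ring are supported on `p`-free rotations
-/

set_option autoImplicit false
set_option linter.unusedSectionVars false

namespace Cfsg.Agent.Perm.DihedralB

open DihedralGroup Finset QuadraticAlgebra

variable {m : ℕ} [NeZero m]

/-- A rotation amount of order prime to `p`. -/
def PFree (p : ℕ) (k : ZMod m) : Prop := ¬ p ∣ addOrderOf k

theorem pfree_add {p : ℕ} (hp : p.Prime) {a b : ZMod m} (ha : PFree p a) (hb : PFree p b) :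
    PFree p (a + b) := by
  intro h
  have h1 : p ∣ addOrderOf a * addOrderOf b :=
    (h.trans ((AddCommute.all a b).addOrderOf_add_dvd_lcm)).trans (Nat.lcm_dvd_mul _ _)
  exact (hp.dvd_mul.1 h1).elim ha hb

theorem pfree_smul_ordProj {p : ℕ} (hp : p.Prime) (k : ZMod m) :
    PFree p ((p ^ m.factorization p) • k) := by
  intro h
  have h0 : (m / p ^ m.factorization p) • ((p ^ m.factorization p) • k) = 0 := by
    rw [smul_smul, Nat.div_mul_cancel (Nat.ordProj_dvd m p), nsmul_eq_mul, ZMod.natCast_self, zero_mul]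
  exact Nat.not_dvd_ordCompl hp (NeZero.ne m) (h.trans (addOrderOf_dvd_of_nsmul_eq_zero h0))

/-- Elements supported on `p`-free places up to multiples of `p ^ j`. -/
noncomputable def lev {p : ℕ} (hp : p.Prime) (j : ℕ) : Subring (CR m) where
  carrier := {x | ∀ k, ¬ PFree p k → ((p ^ j : ℕ) : ℤ) ∣ x.coeff k}
  mul_mem' := fun {x y} hx hy k hk => by
    rw [coeff_mul_cr]
    refine Finset.dvd_sum fun i _ => ?_
    by_cases hi : PFree p i
    · refine Dvd.dvd.mul_left (hy _ fun hki => hk ?_) _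
      have := pfree_add hp hi hki
      rwa [add_sub_cancel] at this
    · exact (hx _ hi).mul_right _
  one_mem' := fun k hk => by
    classical
    have hk0 : k ≠ 0 := by
      rintro rfl; exact hk (by simp [PFree, hp.ne_one])
    simp [AddMonoidAlgebra.one_def, Finsupp.single_eq_of_ne hk0]
  add_mem' := fun {x y} hx hy k hk => by simpa using dvd_add (hx k hk) (hy k hk)
  zero_mem' := fun k _ => by simp
  neg_mem' := fun {x} hx k hk => by simpa using hx k hk

theorem mem_lev {p : ℕ} {hp : p.Prime} {j : ℕ} {x : CR m} :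
    x ∈ lev hp j ↔ ∀ k, ¬ PFree p k → ((p ^ j : ℕ) : ℤ) ∣ x.coeff k := Iff.rfl

theorem dvd_mem_lev {p : ℕ} {hp : p.Prime} {j : ℕ} {x : CR m} (h : ((p ^ j : ℕ) : CR m) ∣ x) :
    x ∈ lev hp j := fun k _ => natCast_dvd_cr.1 h k

theorem p_mul_mem_lev {p : ℕ} {hp : p.Prime} {j : ℕ} {x : CR m} (h : x ∈ lev hp j) :
    (p : CR m) * x ∈ lev hp (j + 1) := fun k hk => by
  rw [natCast_mul_coeff_cr, pow_succ', Nat.cast_mul]
  exact mul_dvd_mul_left _ (h k hk)

theorem pow_mem_lev_succ {p : ℕ} {hp : p.Prime} {j : ℕ} (hj : 1 ≤ j) {x : CR m} (h : x ∈ lev hp j) :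
    x ^ p ∈ lev hp (j + 1) := by
  classical
  set x0 : CR m := mkC fun k => if PFree p k then x.coeff k else 0 with hx0
  have h0 : x0 ∈ lev hp (j + 1) := fun k hk => by simp [hx0, hk]
  have hd : ((p ^ j : ℕ) : CR m) ∣ x - x0 := natCast_dvd_cr.2 fun k => by
    by_cases hk : PFree p k
    · simp [hx0, hk]
    · simpa [hx0, hk] using h k hk
  obtain ⟨c, hc⟩ := hd
  obtain ⟨t, ht⟩ := exists_add_pow_prime_eq hp x0 (x - x0)
  rw [add_sub_cancel] at ht
  rw [ht]
  refine add_mem (add_mem (pow_mem h0 _) (dvd_mem_lev ?_)) (dvd_mem_lev ?_)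
  · have h2 : j + 1 ≤ j * p := by
      have := hp.two_le
      nlinarith
    refine (dvd_trans ?_ (pow_dvd_pow_of_dvd (Dvd.intro c hc.symm) p))
    rw [← Nat.cast_pow, ← pow_mul]
    exact Nat.cast_dvd_cast (pow_dvd_pow p h2)
  · rw [hc, pow_succ', Nat.cast_mul]
    refine Dvd.intro (x0 * c * t) ?_
    ring

theorem pow_mem_lev_one {p : ℕ} {hp : p.Prime} (x : CR m) :
    x ^ (p ^ m.factorization p) ∈ lev hp 1 := by
  induction x using AddMonoidAlgebra.induction_linear with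
  | zero =>
    rw [zero_pow (pow_ne_zero _ hp.ne_zero)]
    exact zero_mem _
  | add f g hf hg =>
    obtain ⟨t, ht⟩ := exists_add_pow_prime_pow_eq hp f g (m.factorization p)
    rw [ht]
    refine add_mem (add_mem hf hg) (dvd_mem_lev ⟨f * g * t, ?_⟩)
    rw [pow_one]
    ring
  | single a b =>
    rw [AddMonoidAlgebra.single_pow]
    intro k hk
    classical
    rw [AddMonoidAlgebra.coeff_single, Finsupp.single_eq_of_ne]
    · exact dvd_zero _
    · rintro rfl; exact hk (pfree_smul_ordProj hp a)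

/-- The cross term of the reflection part with itself. -/
noncomputable def zof (a : DR m) : CR m := refl (sP a) * sP a

/-- The determinant. -/
noncomputable def nof (a : DR m) : CR m := cP a ^ 2 - zof a

namespace DSRing

variable {S : DSRing m}

theorem nof_mul {a b : DR m} (ha : a ∈ S.alg) (hb : b ∈ S.alg) : nof (a * b) = nof a * nof b := by
  have h := refl_sP_mul_comm ha hb
  simp only [nof, zof]
  rw [cP_mul, sP_mul, refl_cP ha, refl_add, refl_mul, refl_mul, refl_cP ha, refl_cP hb]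
  linear_combination (refl (sP a) * sP b + cP a * cP b) * h

theorem nof_pow {a : DR m} (ha : a ∈ S.alg) (n : ℕ) : nof (a ^ n) = nof a ^ n := by
  induction n with
  | zero => simp [nof, zof, cP_one, sP_one]
  | succ n ih => rw [pow_succ, nof_mul (pow_mem ha n) ha, ih, pow_succ]

theorem pow_parts {a : DR m} (ha : a ∈ S.alg) (P : Subring (CR m)) (X Z : P)
    (hX : (X : CR m) = cP a) (hZ : (Z : CR m) = zof a) (n : ℕ) :
    cP (a ^ n) = (((⟨X, 1⟩ : QuadraticAlgebra P Z 0) ^ n).re : CR m) ∧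
      sP (a ^ n) = sP a * (((⟨X, 1⟩ : QuadraticAlgebra P Z 0) ^ n).im : CR m) := by
  induction n with
  | zero => simp [cP_one, sP_one]
  | succ n ih =>
    obtain ⟨h1, h2⟩ := ih
    have hc := refl_sP_mul_comm (pow_mem ha n) ha
    rw [pow_succ, pow_succ, cP_mul, sP_mul, refl_cP (pow_mem ha n), hc,
      QuadraticAlgebra.re_mul, QuadraticAlgebra.im_mul]
    simp only [Subring.coe_add, Subring.coe_mul, Subring.coe_zero, Subring.coe_one, hX, hZ, h1, h2, zof]
    constructor <;> ring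

theorem exists_cP_pow_prime {a : DR m} (ha : a ∈ S.alg) {p : ℕ} (hp : p.Prime) (hp2 : p ≠ 2)
    (P : Subring (CR m)) (hX : cP a ∈ P) (hZ : zof a ∈ P) :
    ∃ t ∈ P, cP (a ^ p) = cP a ^ p + (p : CR m) * t := by
  obtain ⟨h1, -⟩ := pow_parts ha P ⟨_, hX⟩ ⟨_, hZ⟩ rfl rfl p
  set X : P := ⟨_, hX⟩ with hXd
  set Z : P := ⟨_, hZ⟩ with hZd
  let c : QuadraticAlgebra P Z 0 := algebraMap P _ X
  let w : QuadraticAlgebra P Z 0 := ω
  have hdec : (⟨X, 1⟩ : QuadraticAlgebra P Z 0) = c + w := by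
    ext <;> simp [c, w]
  obtain ⟨t, ht⟩ := exists_add_pow_prime_eq hp c w
  obtain ⟨k, hk⟩ := hp.odd_of_ne_two hp2
  have hw : (w ^ p).re = 0 := by
    rw [hk, pow_succ, pow_mul, pow_two, omega_mul_omega_eq_mk]
    have hC : (⟨Z, 0⟩ : QuadraticAlgebra P Z 0) = algebraMap P _ Z := by ext <;> simp
    rw [hC, ← map_pow, QuadraticAlgebra.re_mul]
    simp only [w, algebraMap_im, omega_re, mul_zero, zero_mul, add_zero]
  have hc : (c ^ p).re = X ^ p := by simp [c, ← map_pow]
  refine ⟨((c * w * t).re : P), SetLike.coe_mem _, ?_⟩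
  rw [h1, hdec, ht, QuadraticAlgebra.re_add, QuadraticAlgebra.re_add, hw, hc, add_zero,
    show (p : QuadraticAlgebra P Z 0) * c * w * t = (p : QuadraticAlgebra P Z 0) * (c * w * t) by ring,
    QuadraticAlgebra.re_mul]
  simp [hXd]

theorem lev_step {a : DR m} (ha : a ∈ S.alg) {p : ℕ} (hp : p.Prime) (hp2 : p ≠ 2) {j : ℕ}
    (hj : 1 ≤ j) (hX : cP a ∈ lev hp j) (hZ : zof a ∈ lev hp j) :
    cP (a ^ p) ∈ lev hp (j + 1) ∧ zof (a ^ p) ∈ lev hp (j + 1) := by
  obtain ⟨t, ht, he⟩ := exists_cP_pow_prime ha hp hp2 _ hX hZ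
  have h1 : cP (a ^ p) ∈ lev hp (j + 1) := by
    rw [he]; exact add_mem (pow_mem_lev_succ hj hX) (p_mul_mem_lev ht)
  refine ⟨h1, ?_⟩
  have h2 : zof (a ^ p) = cP (a ^ p) ^ 2 - nof a ^ p := by
    rw [← nof_pow ha p, nof]; ring
  rw [h2]
  exact sub_mem (pow_mem h1 2) (pow_mem_lev_succ hj (sub_mem (pow_mem hX 2) hZ))

theorem cP_pow_prime_dvd {a : DR m} (ha : a ∈ S.alg) {p : ℕ} (hp : p.Prime) (hp2 : p ≠ 2) :
    (p : CR m) ∣ cP (a ^ p) - cP a ^ p := by
  obtain ⟨t, -, he⟩ := exists_cP_pow_prime ha hp hp2 ⊤ trivial trivial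
  exact Dvd.intro t (by rw [he]; ring)

theorem cP_pow_prime_pow_dvd {a : DR m} (ha : a ∈ S.alg) {p : ℕ} (hp : p.Prime) (hp2 : p ≠ 2)
    (i : ℕ) : (p : CR m) ∣ cP (a ^ p ^ i) - cP a ^ p ^ i := by
  induction i with
  | zero => simp
  | succ i ih =>
    rw [pow_succ, pow_mul, pow_mul]
    have h1 := cP_pow_prime_dvd (pow_mem ha (p ^ i)) hp hp2
    have h2 := ih.trans (sub_dvd_pow_sub_pow (cP (a ^ p ^ i)) (cP a ^ p ^ i) p)
    have := dvd_add h1 h2
    rwa [sub_add_sub_cancel] at this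

/-- The main congruence. -/
theorem cP_pow_mem_lev {a : DR m} (ha : a ∈ S.alg) {p : ℕ} (hp : p.Prime) (hp2 : p ≠ 2) (n : ℕ) :
    cP (a ^ p ^ (m.factorization p + n)) ∈ lev hp (n + 1) ∧
      zof (a ^ p ^ (m.factorization p + n)) ∈ lev hp (n + 1) := by
  induction n with
  | zero =>
    simp only [Nat.add_zero, Nat.zero_add]
    set N := p ^ m.factorization p with hN
    have hc : cP (a ^ N) ∈ lev hp 1 := by
      have h1 : cP (a ^ N) - cP a ^ N ∈ lev hp 1 := dvd_mem_lev (by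
        rw [pow_one]; exact cP_pow_prime_pow_dvd ha hp hp2 (m.factorization p))
      have h := add_mem h1 (pow_mem_lev_one (hp := hp) (cP a))
      rwa [sub_add_cancel] at h
    refine ⟨hc, ?_⟩
    have h2 : zof (a ^ N) = cP (a ^ N) ^ 2 - nof a ^ N := by
      rw [← nof_pow ha N, nof]; ring
    rw [h2]
    exact sub_mem (pow_mem hc 2) (pow_mem_lev_one _)
  | succ n ih =>
    rw [← Nat.add_assoc, pow_succ, pow_mul]
    exact lev_step (pow_mem ha _) hp hp2 (Nat.succ_pos n) ih.1 ih.2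

end DSRing

end Cfsg.Agent.Perm.DihedralB
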