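import Cfsg.Agent.Lib.Perm.DihedralB.Endgame
import Mathlib.NumberTheory.LSeries.PrimesInAP

/-!
# Every primitive Schur ring over a dihedral group is trivial
-/

set_option autoImplicit false
set_option linter.unusedSectionVars false

namespace Cfsg.Agent.Perm.DihedralB

open DihedralGroup Finset

variable {m : ℕ} [NeZero m]

theorem exists_prime_cast (u : (ZMod m)ˣ) (N : ℕ) :
    ∃ q : ℕ, q.Prime ∧ q ≠ 2 ∧ N < q ∧ (q : ZMod m) = u := by
  obtain ⟨q, hq, hqp, he⟩ := Nat.forall_exists_prime_gt_and_eq_mod (q := m) u.isUnit (max N 2)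
  exact ⟨q, hqp, (lt_of_le_of_lt (le_max_right N 2) hq).ne', lt_of_le_of_lt (le_max_left N 2) hq, he⟩

theorem eq_of_dvd_small {q : ℕ} {a b : ℤ} (h : (q : ℤ) ∣ a - b) (hq : (a - b).natAbs < q) : a = b := by
  have := Nat.eq_zero_of_dvd_of_lt (Int.natCast_dvd.1 h) hq
  omega

namespace DSRing

variable {S : DSRing m}

theorem cong_pow {a : DR m} (ha : a ∈ S.alg) {q : ℕ} (hq : q.Prime) (hq2 : q ≠ 2) {u : (ZMod m)ˣ}
    (hu : (u : ZMod m) = q) (i : ZMod m) :
    (q : ℤ) ∣ (a ^ q).coeff (r ((u : ZMod m) * i)) - a.coeff (r i) := by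
  have h1 := natCast_dvd_cr.1 (dvd_add (cP_pow_prime_dvd ha hq hq2) (frob hq (cP a))) (q • i)
  rw [sub_add_sub_cancel, AddMonoidAlgebra.coeff_sub, Finsupp.sub_apply, coeff_cP,
    coeff_phi_unit hu, coeff_cP] at h1
  rwa [hu, ← nsmul_eq_mul]

/-- Units act on the classes. -/
theorem unit_compat (u : (ZMod m)ˣ) {i j : ZMod m} (h : S.rel (r i) (r j)) :
    S.rel (r ((u : ZMod m) * i)) (r ((u : ZMod m) * j)) := by
  set a := S.ind (r ((u : ZMod m) * i)) with ha
  by_contra hne
  obtain ⟨q, hq, hq2, -, hqu⟩ := exists_prime_cast u⁻¹ 0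
  have ham : a ∈ S.alg := S.ind_mem _
  have h1 := cong_pow ham hq hq2 hqu.symm ((u : ZMod m) * i)
  have h2 := cong_pow ham hq hq2 hqu.symm ((u : ZMod m) * j)
  rw [Units.inv_mul_cancel_left] at h1 h2
  rw [(pow_mem ham q) _ _ h] at h1
  have h3 := dvd_sub h1 h2
  rw [sub_sub_sub_cancel_left, ha, S.coeff_ind_pos (S.equiv.refl _), S.coeff_ind_neg hne] at h3
  have h4 : q ∣ 1 := by simpa [Int.natCast_dvd] using h3
  exact hq.ne_one (Nat.dvd_one.1 h4)

/-- The fusion under units. -/
def CoarseRel (S : DSRing m) (x y : DihedralGroup m) : Prop :=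
  ∃ (u : (ZMod m)ˣ) (i : ZMod m), S.rel x (r i) ∧ S.rel y (r ((u : ZMod m) * i))

variable (hm : 2 ≤ m)
include hm

theorem coarse_of_rel {x y : DihedralGroup m} (h : S.rel x y) : CoarseRel S x y := by
  obtain ⟨i, hi⟩ := S.exists_r hm x
  exact ⟨1, i, hi, by simpa using S.equiv.trans (S.equiv.symm h) hi⟩

theorem coarse_equiv : Equivalence (CoarseRel S) where
  refl x := coarse_of_rel hm (S.equiv.refl x)
  symm := fun {x y} ⟨u, i, h1, h2⟩ => ⟨u⁻¹, _, h2, by rwa [Units.inv_mul_cancel_left]⟩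
  trans := fun {x y z} ⟨u, i, h1, h2⟩ ⟨v, j, h3, h4⟩ => by
    refine ⟨v * u, i, h1, ?_⟩
    have h5 := unit_compat v (S.equiv.trans (S.equiv.symm h2) h3)
    rw [Units.val_mul, mul_assoc]
    exact S.equiv.trans h4 (S.equiv.symm h5)

theorem coarse_conv (a b : DR m) (ha : Const (CoarseRel S) a) (hb : Const (CoarseRel S) b) :
    Const (CoarseRel S) (a * b) := by
  have mem : ∀ c : DR m, Const (CoarseRel S) c → c ∈ S.alg := fun c hc x y h =>
    hc x y (coarse_of_rel hm h)
  have inv : ∀ c : DR m, Const (CoarseRel S) c → ∀ (u : (ZMod m)ˣ) i,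
      c.coeff (r ((u : ZMod m) * i)) = c.coeff (r i) := fun c hc u i =>
    (hc _ _ ⟨u, i, S.equiv.refl _, S.equiv.refl _⟩).symm
  rintro x y ⟨u, i, h1, h2⟩
  rw [S.conv a b (mem a ha) (mem b hb) _ _ h1, S.conv a b (mem a ha) (mem b hb) _ _ h2]
  obtain ⟨q, hq, hq2, hqN, hqu⟩ := exists_prime_cast u
    ((a * b).coeff (r i) - (a * b).coeff (r ((u : ZMod m) * i))).natAbs
  refine eq_of_dvd_small ?_ hqN
  have hfix : ∀ c : S.alg, Const (CoarseRel S) (c : DR m) → (q : S.alg) ∣ c ^ q - c := by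
    intro c hc
    refine dvd_of_cP hm _ (natCast_dvd_cr.2 fun k => ?_)
    rw [AddSubgroupClass.coe_sub, SubmonoidClass.coe_pow, cP_sub, AddMonoidAlgebra.coeff_sub,
      Finsupp.sub_apply, coeff_cP, coeff_cP]
    have h := cong_pow c.2 hq hq2 hqu.symm ((↑u⁻¹ : ZMod m) * k)
    rwa [Units.mul_inv_cancel_left, inv _ hc] at h
  set A : S.alg := ⟨a, mem a ha⟩
  set B : S.alg := ⟨b, mem b hb⟩
  have hprod : (q : S.alg) ∣ (A * B) ^ q - A * B := by
    rw [mul_pow, show A ^ q * B ^ q - A * B = (A ^ q - A) * B ^ q + A * (B ^ q - B) by ring]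
    exact dvd_add ((hfix A ha).mul_right _) ((hfix B hb).mul_left _)
  have h3 := natCast_dvd_cr.1 (cP_dvd_of_dvd hprod) ((u : ZMod m) * i)
  have h4 := cong_pow (mul_mem (mem a ha) (mem b hb)) hq hq2 hqu.symm i
  simp only [SubmonoidClass.coe_pow, Subring.coe_mul, AddMonoidAlgebra.coeff_sub, Finsupp.sub_apply,
    coeff_cP, A, B] at h3
  have h5 := dvd_sub h3 h4
  rwa [sub_sub_sub_cancel_left] at h5

/-- The coarsened Schur ring. -/
def coarse : DSRing m where
  rel := CoarseRel S
  equiv := coarse_equiv hm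
  one := fun x ⟨u, i, h1, h2⟩ => by
    have hi : i = 0 := r.inj ((S.one _ h1).trans one_def)
    rw [hi, mul_zero, ← one_def] at h2
    exact S.one x (S.equiv.symm h2)
  inv := fun x y h => by
    refine (coarse_equiv hm).trans (coarse_of_rel hm (S.equiv.symm (S.rel_inv_self x)))
      ((coarse_equiv hm).trans h (coarse_of_rel hm (S.rel_inv_self y)))
  conv := coarse_conv hm
  prim := fun K hK => S.prim K fun x y h => hK x y (coarse_of_rel hm h)

/-- All non-identity elements are related. -/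
theorem trivial_of_primitive {x y : DihedralGroup m} (hx : x ≠ 1) (hy : y ≠ 1) : S.rel x y := by
  classical
  have hrat : (coarse (S := S) hm).IsRatl := fun u i => ⟨u, i, S.equiv.refl _, S.equiv.refl _⟩
  have hall : ∀ x y, x ≠ 1 → y ≠ 1 → CoarseRel S x y := fun x y hx hy =>
    trivial_of_ratl (S := coarse (S := S) hm) hm hrat hx hy
  let F : DihedralGroup m → ℤ := fun x => ∑ k, (S.ind x).coeff (r k)
  let T : DihedralGroup m → ℤ := fun x => ∑ g, (S.ind x).coeff g
  have hind : ∀ {x x' : DihedralGroup m}, S.rel x x' → ∀ g, (S.ind x).coeff g = (S.ind x').coeff g := by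
    intro x x' h g
    by_cases hg : S.rel x g
    · rw [S.coeff_ind_pos hg, S.coeff_ind_pos (S.equiv.trans (S.equiv.symm h) hg)]
    · rw [S.coeff_ind_neg hg, S.coeff_ind_neg fun e => hg (S.equiv.trans h e)]
  have hmap : ∀ (u : (ZMod m)ˣ) (i k : ZMod m),
      (S.ind (r ((u : ZMod m) * i))).coeff (r ((u : ZMod m) * k)) = (S.ind (r i)).coeff (r k) := by
    intro u i k
    by_cases hg : S.rel (r i) (r k)
    · rw [S.coeff_ind_pos hg, S.coeff_ind_pos (unit_compat u hg)]
    · rw [S.coeff_ind_neg hg, S.coeff_ind_neg fun e => hg ?_]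
      simpa using unit_compat u⁻¹ e
  have hTb : ∀ x, 0 ≤ T x ∧ T x ≤ 2 * m := by
    intro x
    refine ⟨Finset.sum_nonneg fun g _ => S.coeff_ind_nonneg x g, ?_⟩
    have : T x ≤ ∑ _g : DihedralGroup m, (1 : ℤ) := Finset.sum_le_sum fun g _ => by
      rcases ind_zero_one (S := S) x g with e | e <;> rw [e] <;> norm_num
    simpa [DihedralGroup.card] using this
  have hconst : ∀ z, z ≠ 1 → F z = F x ∧ T z = T x := by
    intro z hz
    obtain ⟨u, i, h1, h2⟩ := hall x z hx hz
    have eF : F z = F (r ((u : ZMod m) * i)) := Finset.sum_congr rfl fun g _ => hind h2 _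
    have eF' : F x = F (r i) := Finset.sum_congr rfl fun g _ => hind h1 _
    have eT : T z = T (r ((u : ZMod m) * i)) := Finset.sum_congr rfl fun g _ => hind h2 _
    have eT' : T x = T (r i) := Finset.sum_congr rfl fun g _ => hind h1 _
    rw [eF, eF', eT, eT']
    refine ⟨(Fintype.sum_equiv (Units.mulLeft u) _ _ fun k => (hmap u i k).symm).symm, ?_⟩
    obtain ⟨q, hq, hq2, hqN, hqu⟩ := exists_prime_cast u (2 * m)
    haveI : Fact q.Prime := ⟨hq⟩
    set a : S.alg := ⟨S.ind (r i), S.ind_mem _⟩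
    set b : S.alg := ⟨S.ind (r ((u : ZMod m) * i)), S.ind_mem _⟩
    obtain ⟨c, hc⟩ : (q : S.alg) ∣ a ^ q - b := by
      refine dvd_of_cP hm _ (natCast_dvd_cr.2 fun k => ?_)
      rw [AddSubgroupClass.coe_sub, SubmonoidClass.coe_pow, cP_sub, AddMonoidAlgebra.coeff_sub,
        Finsupp.sub_apply, coeff_cP, coeff_cP]
      have h := cong_pow (S.ind_mem (r i)) hq hq2 hqu.symm ((↑u⁻¹ : ZMod m) * k)
      rwa [← hmap u i, Units.mul_inv_cancel_left] at h
    have hev : ∀ (d : DR m) (n : ℕ), evalD (fun _ => 1) (d ^ n) = evalD (fun _ => 1) d ^ n := by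
      intro d n
      induction n with
      | zero =>
        classical
        simp [evalD, MonoidAlgebra.one_def, Finsupp.single_apply]
      | succ n ih => rw [pow_succ, evalD_mul (fun _ _ => by norm_num), ih, pow_succ]
    have hT : ∀ z, T z = evalD (fun _ => 1) (S.ind z) := fun z => by simp [T, evalD]
    have h5 : T (r i) ^ q - T (r ((u : ZMod m) * i)) = (q : ℤ) * evalD (fun _ => 1) (c : DR m) := by
      rw [hT, hT, ← hev]
      have e := congrArg (fun d : S.alg => evalD (fun _ => 1) (d : DR m)) hc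
      simp only [AddSubgroupClass.coe_sub, SubmonoidClass.coe_pow, Subring.coe_mul,
        SubringClass.coe_natCast, evalD, one_mul, MonoidAlgebra.coeff_sub, Finsupp.sub_apply,
        natCast_mul_coeff_dr, Finset.sum_sub_distrib, ← Finset.mul_sum] at e
      simpa [evalD, a, b] using e
    have h6 : ((T (r i) : ℤ) : ZMod q) = ((T (r ((u : ZMod m) * i)) : ℤ) : ZMod q) := by
      have := congrArg (fun d : ℤ => (d : ZMod q)) h5
      push_cast at this
      rwa [ZMod.pow_card, ZMod.natCast_self, zero_mul, sub_eq_zero] at this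
    refine (eq_of_dvd_small ((ZMod.intCast_eq_intCast_iff_dvd_sub _ _ _).1 h6.symm) ?_).symm
    have := hTb (r i)
    have := hTb (r ((u : ZMod m) * i))
    omega
  have h0 : (S.ind x).coeff (r 0) = 0 :=
    S.coeff_ind_neg fun e => hx (S.one x (S.equiv.symm (by rwa [one_def])))
  have hdc : ((2 * m : ℕ) - 1 : ℤ) * F x = ((m : ℤ) - 1) * T x := by
    have e1 : ∑ z ∈ (univ : Finset (DihedralGroup m)).erase 1, F z =
        ((2 * m : ℕ) - 1 : ℤ) * F x := by
      rw [Finset.sum_congr rfl fun z hz => (hconst z (Finset.ne_of_mem_erase hz)).1, Finset.sum_const,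
        Finset.card_erase_of_mem (Finset.mem_univ _), Finset.card_univ, DihedralGroup.card,
        nsmul_eq_mul, Nat.cast_sub (by omega)]
      rfl
    have e2 : ∑ z ∈ (univ : Finset (DihedralGroup m)).erase 1, F z = ((m : ℤ) - 1) * T x := by
      rw [Finset.sum_comm, ← Finset.sum_erase_add _ _ (Finset.mem_univ (0 : ZMod m))]
      have ez : ∑ z ∈ (univ : Finset (DihedralGroup m)).erase 1, (S.ind z).coeff (r 0) = 0 :=
        Finset.sum_eq_zero fun z hz => S.coeff_ind_neg fun e =>
          Finset.ne_of_mem_erase hz (S.one z (S.equiv.symm (by rwa [one_def])))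
      rw [ez, add_zero, Finset.sum_congr rfl (fun k hk => ?_) (g := fun _ => T x), Finset.sum_const,
        Finset.card_erase_of_mem (Finset.mem_univ _), Finset.card_univ, ZMod.card, nsmul_eq_mul,
        Nat.cast_sub (by omega)]
      · rfl
      · have hk0 : (r k : DihedralGroup m) ≠ 1 := fun e =>
          Finset.ne_of_mem_erase hk (r.inj (e.trans one_def))
        rw [← (hconst _ hk0).2]
        rw [Finset.sum_erase (f := fun z => (S.ind z).coeff (r k)) _ (S.coeff_ind_neg fun e => hk0 (S.one _ e))]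
        refine Finset.sum_congr rfl fun z _ => ?_
        by_cases hz : S.rel z (r k)
        · rw [S.coeff_ind_pos hz, S.coeff_ind_pos (S.equiv.symm hz)]
        · rw [S.coeff_ind_neg hz, S.coeff_ind_neg fun e => hz (S.equiv.symm e)]
    exact e1.symm.trans e2
  have hdvd : ((m : ℤ) - 1) ∣ F x := by
    refine ⟨T x - 2 * F x, ?_⟩
    push_cast at hdc
    linarith
  have hFpos : 0 < F x := by
    obtain ⟨i, hi⟩ := S.exists_r hm x
    exact Finset.sum_pos' (fun k _ => S.coeff_ind_nonneg x _) ⟨i, Finset.mem_univ _, by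
      rw [S.coeff_ind_pos hi]; norm_num⟩
  have hFfull : ∀ k : ZMod m, k ≠ 0 → S.rel x (r k) := by
    intro k hk
    by_contra hne
    have hlt : F x < ∑ k' ∈ (univ : Finset (ZMod m)).erase 0, (1 : ℤ) := by
      rw [show F x = ∑ k' ∈ (univ : Finset (ZMod m)).erase 0, (S.ind x).coeff (r k') from
        (Finset.sum_erase (f := fun k' => (S.ind x).coeff (r k')) _ h0).symm]
      refine Finset.sum_lt_sum (fun k' _ => ?_) ⟨k, Finset.mem_erase.2 ⟨hk, Finset.mem_univ _⟩, ?_⟩
      · rcases ind_zero_one (S := S) x (r k') with e | e <;> rw [e] <;> norm_num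
      · rw [S.coeff_ind_neg hne]; norm_num
    rw [Finset.sum_const, Finset.card_erase_of_mem (Finset.mem_univ _), Finset.card_univ, ZMod.card,
      nsmul_eq_mul, mul_one, Nat.cast_sub (show 1 ≤ m by omega)] at hlt
    have := Int.le_of_dvd hFpos hdvd
    push_cast at hlt
    omega
  obtain ⟨j, hj⟩ := S.exists_r hm y
  have hj0 : j ≠ 0 := fun e => hy (S.one y (S.equiv.symm (by rw [e, ← one_def] at hj; exact hj)))
  exact S.equiv.trans (hFfull j hj0) (S.equiv.symm hj)

end DSRing

end Cfsg.Agent.Perm.DihedralB
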