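import Mathlib

/-!
# The integral group algebra of a dihedral group through its two parts
-/

set_option autoImplicit false
set_option linter.unusedSectionVars false

namespace Cfsg.Agent.Perm.DihedralB

open DihedralGroup Finset

variable {m : ℕ} [NeZero m]

/-- The integral group algebra of the cyclic group. -/
abbrev CR (m : ℕ) := AddMonoidAlgebra ℤ (ZMod m)

/-- The integral group algebra of the dihedral group. -/
abbrev DR (m : ℕ) := MonoidAlgebra ℤ (DihedralGroup m)

theorem sum_dihedral {M : Type*} [AddCommMonoid M] (f : DihedralGroup m → M) :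
    ∑ z, f z = (∑ i, f (r i)) + ∑ i, f (sr i) := by
  classical
  let e : ZMod m ⊕ ZMod m ≃ DihedralGroup m :=
    { toFun := Sum.elim r sr
      invFun := fun g => match g with
        | r i => Sum.inl i
        | sr i => Sum.inr i
      left_inv := by rintro (i | i) <;> rfl
      right_inv := by rintro (i | i) <;> rfl }
  rw [← e.sum_comp f, Fintype.sum_sum_type]
  rfl

theorem coeff_mul_cr (x y : CR m) (k : ZMod m) :
    (x * y).coeff k = ∑ i, x.coeff i * y.coeff (k - i) := by
  classical
  induction x using AddMonoidAlgebra.induction_linear with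
  | zero => simp
  | add f g hf hg => simp [add_mul, hf, hg, Finset.sum_add_distrib]
  | single a b =>
    rw [Finset.sum_eq_single a]
    · simp [neg_add_eq_sub]
    · intro c _ hc; simp [Finsupp.single_eq_of_ne hc]
    · simp

theorem coeff_mul_dr (x y : DR m) (g : DihedralGroup m) :
    (x * y).coeff g = ∑ z, x.coeff z * y.coeff (z⁻¹ * g) := by
  classical
  induction x using MonoidAlgebra.induction_linear with
  | zero => simp
  | add f g hf hg => simp [add_mul, hf, hg, Finset.sum_add_distrib]
  | single a b =>
    rw [Finset.sum_eq_single a]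
    · simp
    · intro c _ hc; simp [Finsupp.single_eq_of_ne hc]
    · simp

/-- The element of the cyclic algebra with given coefficients. -/
noncomputable def mkC (f : ZMod m → ℤ) : CR m :=
  AddMonoidAlgebra.ofCoeff (Finsupp.equivFunOnFinite.symm f)

@[simp] theorem coeff_mkC (f : ZMod m → ℤ) (k : ZMod m) : (mkC f).coeff k = f k := by
  simp [mkC]

/-- The element of the dihedral algebra with given coefficients. -/
noncomputable def mkD (f : DihedralGroup m → ℤ) : DR m :=
  MonoidAlgebra.ofCoeff (Finsupp.equivFunOnFinite.symm f)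

@[simp] theorem coeff_mkD (f : DihedralGroup m → ℤ) (g : DihedralGroup m) :
    (mkD f).coeff g = f g := by
  simp [mkD]

theorem cr_ext {x y : CR m} (h : ∀ k, x.coeff k = y.coeff k) : x = y :=
  AddMonoidAlgebra.ext (Finsupp.ext h)

theorem dr_ext {x y : DR m} (h : ∀ g, x.coeff g = y.coeff g) : x = y :=
  MonoidAlgebra.ext (Finsupp.ext h)

theorem natCast_mul_coeff_cr (n : ℕ) (x : CR m) (k : ZMod m) :
    ((n : CR m) * x).coeff k = (n : ℤ) * x.coeff k := by
  rw [← nsmul_eq_mul, AddMonoidAlgebra.coeff_smul_apply, nsmul_eq_mul]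

theorem natCast_mul_coeff_dr (n : ℕ) (x : DR m) (g : DihedralGroup m) :
    ((n : DR m) * x).coeff g = (n : ℤ) * x.coeff g := by
  rw [← nsmul_eq_mul, MonoidAlgebra.coeff_smul_apply, nsmul_eq_mul]

theorem natCast_dvd_cr {n : ℕ} {x : CR m} : (n : CR m) ∣ x ↔ ∀ k, (n : ℤ) ∣ x.coeff k := by
  constructor
  · rintro ⟨c, rfl⟩ k
    exact ⟨c.coeff k, natCast_mul_coeff_cr n c k⟩
  · intro h
    refine ⟨mkC fun k => x.coeff k / n, cr_ext fun k => ?_⟩
    rw [natCast_mul_coeff_cr, coeff_mkC, Int.mul_ediv_cancel' (h k)]

/-- Reflection. -/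
noncomputable def refl (x : CR m) : CR m := mkC fun k => x.coeff (-k)

@[simp] theorem coeff_refl (x : CR m) (k : ZMod m) : (refl x).coeff k = x.coeff (-k) := by
  simp [refl]

@[simp] theorem refl_refl (x : CR m) : refl (refl x) = x := cr_ext fun k => by simp

theorem refl_add (x y : CR m) : refl (x + y) = refl x + refl y := cr_ext fun k => by simp

theorem refl_mul (x y : CR m) : refl (x * y) = refl x * refl y := by
  refine cr_ext fun k => ?_
  rw [coeff_refl, coeff_mul_cr, coeff_mul_cr]
  refine Fintype.sum_equiv (Equiv.neg (ZMod m)) _ _ fun i => ?_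
  simp only [Equiv.neg_apply, coeff_refl, neg_neg]
  congr 2; abel

/-- The part on rotations. -/
noncomputable def cP (a : DR m) : CR m := mkC fun k => a.coeff (r k)

/-- The part on reflections. -/
noncomputable def sP (a : DR m) : CR m := mkC fun k => a.coeff (sr k)

@[simp] theorem coeff_cP (a : DR m) (k : ZMod m) : (cP a).coeff k = a.coeff (r k) := by simp [cP]

@[simp] theorem coeff_sP (a : DR m) (k : ZMod m) : (sP a).coeff k = a.coeff (sr k) := by simp [sP]

theorem parts_ext {a b : DR m} (h1 : cP a = cP b) (h2 : sP a = sP b) : a = b := by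
  refine dr_ext fun g => ?_
  rcases g with k | k
  · simpa using congrArg (fun x : CR m => x.coeff k) h1
  · simpa using congrArg (fun x : CR m => x.coeff k) h2

theorem cP_add (a b : DR m) : cP (a + b) = cP a + cP b := cr_ext fun k => by simp

theorem sP_add (a b : DR m) : sP (a + b) = sP a + sP b := cr_ext fun k => by simp

theorem cP_sub (a b : DR m) : cP (a - b) = cP a - cP b := cr_ext fun k => by simp

theorem cP_natCast_mul (n : ℕ) (a : DR m) : cP ((n : DR m) * a) = (n : CR m) * cP a := by
  refine cr_ext fun k => ?_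
  rw [coeff_cP, natCast_mul_coeff_dr, natCast_mul_coeff_cr, coeff_cP]

theorem cP_one : cP (1 : DR m) = 1 := by
  refine cr_ext fun k => ?_
  rw [coeff_cP, MonoidAlgebra.one_def, AddMonoidAlgebra.one_def, MonoidAlgebra.coeff_single,
    AddMonoidAlgebra.coeff_single]
  classical
  rw [Finsupp.single_apply, Finsupp.single_apply]
  by_cases h : (0 : ZMod m) = k
  · subst h; rw [if_pos DihedralGroup.one_def, if_pos rfl]
  · rw [if_neg (fun e => h (r.inj (DihedralGroup.one_def.symm.trans e))), if_neg h]

theorem sP_one : sP (1 : DR m) = 0 := by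
  refine cr_ext fun k => ?_
  rw [coeff_sP, MonoidAlgebra.one_def, MonoidAlgebra.coeff_single]
  classical
  rw [Finsupp.single_apply, if_neg (fun e => ?_)]
  · simp
  · rw [DihedralGroup.one_def] at e; cases e

theorem cP_mul (a b : DR m) : cP (a * b) = cP a * cP b + refl (sP a) * sP b := by
  refine cr_ext fun k => ?_
  rw [coeff_cP, coeff_mul_dr, sum_dihedral, AddMonoidAlgebra.coeff_add, Finsupp.add_apply,
    coeff_mul_cr, coeff_mul_cr]
  congr 1
  · refine Finset.sum_congr rfl fun i _ => ?_
    simp [inv_r, r_mul_r, neg_add_eq_sub]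
  · refine Fintype.sum_equiv (Equiv.neg (ZMod m)) _ _ fun i => ?_
    simp [inv_sr, sr_mul_r, add_comm]

theorem sP_mul (a b : DR m) : sP (a * b) = refl (cP a) * sP b + sP a * cP b := by
  refine cr_ext fun k => ?_
  rw [coeff_sP, coeff_mul_dr, sum_dihedral, AddMonoidAlgebra.coeff_add, Finsupp.add_apply,
    coeff_mul_cr, coeff_mul_cr]
  congr 1
  · refine Fintype.sum_equiv (Equiv.neg (ZMod m)) _ _ fun i => ?_
    simp [inv_r, r_mul_sr]

/-- The endomorphism induced by multiplication with a natural number. -/
noncomputable def phi (n : ℕ) : CR m →+* CR m :=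
  AddMonoidAlgebra.mapDomainRingHom ℤ (nsmulAddMonoidHom (α := ZMod m) n)

theorem phi_single (n : ℕ) (k : ZMod m) (c : ℤ) :
    phi n (AddMonoidAlgebra.single k c : CR m) = AddMonoidAlgebra.single (n • k) c := by
  simp [phi]

theorem coeff_phi (n : ℕ) (x : CR m) (k : ZMod m) :
    (phi n x).coeff k = ∑ i, if n • i = k then x.coeff i else 0 := by
  classical
  induction x using AddMonoidAlgebra.induction_linear with
  | zero => simp
  | add f g hf hg =>
    rw [map_add, AddMonoidAlgebra.coeff_add, Finsupp.add_apply, hf, hg, ← Finset.sum_add_distrib]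
    refine Finset.sum_congr rfl fun i _ => ?_
    split_ifs <;> simp
  | single a b =>
    rw [phi_single, Finset.sum_eq_single a]
    · simp [Finsupp.single_apply]
    · intro c _ hc; simp [Finsupp.single_eq_of_ne hc]
    · simp

theorem coeff_phi_unit {n : ℕ} {u : (ZMod m)ˣ} (hu : (u : ZMod m) = n) (x : CR m) (i : ZMod m) :
    (phi n x).coeff (n • i) = x.coeff i := by
  classical
  rw [coeff_phi, Finset.sum_eq_single i]
  · simp
  · intro c _ hc
    rw [if_neg]
    intro h
    rw [nsmul_eq_mul, nsmul_eq_mul, ← hu] at h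
    exact hc (u.mul_right_inj.1 h)
  · simp

/-- The Frobenius congruence. -/
theorem frob {p : ℕ} (hp : p.Prime) (x : CR m) : (p : CR m) ∣ x ^ p - phi p x := by
  induction x using AddMonoidAlgebra.induction_linear with
  | zero => simp [zero_pow hp.ne_zero]
  | add f g hf hg =>
    obtain ⟨t, ht⟩ := exists_add_pow_prime_eq hp f g
    rw [ht, map_add]
    have : f ^ p + g ^ p + (p : CR m) * f * g * t - (phi p f + phi p g)
        = (f ^ p - phi p f) + (g ^ p - phi p g) + (p : CR m) * (f * g * t) := by ring
    rw [this]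
    exact dvd_add (dvd_add hf hg) (dvd_mul_right _ _)
  | single a b =>
    rw [AddMonoidAlgebra.single_pow, phi_single, natCast_dvd_cr]
    intro k
    classical
    rw [AddMonoidAlgebra.coeff_sub, Finsupp.sub_apply, AddMonoidAlgebra.coeff_single,
      AddMonoidAlgebra.coeff_single]
    rw [Finsupp.single_apply, Finsupp.single_apply]
    split_ifs
    · haveI : Fact p.Prime := ⟨hp⟩
      rw [← ZMod.intCast_zmod_eq_zero_iff_dvd]
      push_cast
      rw [ZMod.pow_card, sub_self]
    · simp

end Cfsg.Agent.Perm.DihedralB
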