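import Cfsg.Agent.Lib.Perm.DihedralB.Ring

/-!
# Primitive Schur rings over dihedral groups
-/

set_option autoImplicit false
set_option linter.unusedSectionVars false

namespace Cfsg.Agent.Perm.DihedralB

open DihedralGroup Finset

variable {m : ℕ} [NeZero m]

/-- An element which is constant on the classes of a relation. -/
def Const (R : DihedralGroup m → DihedralGroup m → Prop) (a : DR m) : Prop :=
  ∀ x y, R x y → a.coeff x = a.coeff y

/-- A primitive Schur partition of a dihedral group. -/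
structure DSRing (m : ℕ) [NeZero m] where
  rel : DihedralGroup m → DihedralGroup m → Prop
  equiv : Equivalence rel
  one : ∀ x, rel 1 x → x = 1
  inv : ∀ x y, rel x y → rel x⁻¹ y⁻¹
  conv : ∀ a b : DR m, Const rel a → Const rel b → Const rel (a * b)
  prim : ∀ K : Subgroup (DihedralGroup m), (∀ x y, rel x y → x ∈ K → y ∈ K) → K = ⊥ ∨ K = ⊤

namespace DSRing

variable (S : DSRing m)

theorem eq_one_iff {x y : DihedralGroup m} (h : S.rel x y) : x = 1 ↔ y = 1 :=
  ⟨fun e => S.one y (e ▸ h), fun e => S.one x (e ▸ S.equiv.symm h)⟩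

/-- The Schur ring. -/
noncomputable def alg : Subring (DR m) where
  carrier := {a | Const S.rel a}
  mul_mem' := fun {a b} ha hb => S.conv a b ha hb
  one_mem' := fun x y h => by
    classical
    rw [MonoidAlgebra.one_def, MonoidAlgebra.coeff_single, Finsupp.single_apply, Finsupp.single_apply]
    have h1 := S.eq_one_iff h
    by_cases hx : (1 : DihedralGroup m) = x
    · rw [if_pos hx, if_pos (h1.1 hx.symm).symm]
    · rw [if_neg hx, if_neg (fun e => hx (h1.2 e.symm).symm)]
  add_mem' := fun {a b} ha hb x y h => by simp [ha x y h, hb x y h]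
  zero_mem' := fun x y _ => by simp
  neg_mem' := fun {a} ha x y h => by simp [ha x y h]

theorem mem_alg {a : DR m} : a ∈ S.alg ↔ Const S.rel a := Iff.rfl

/-- The indicator of the class of an element. -/
noncomputable def ind (x : DihedralGroup m) : DR m :=
  haveI := Classical.propDecidable
  mkD fun y => if S.rel x y then 1 else 0

theorem coeff_ind_pos {x y : DihedralGroup m} (h : S.rel x y) : (S.ind x).coeff y = 1 := by
  simp [ind, h]

theorem coeff_ind_neg {x y : DihedralGroup m} (h : ¬ S.rel x y) : (S.ind x).coeff y = 0 := by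
  simp [ind, h]

theorem coeff_ind_nonneg (x y : DihedralGroup m) : 0 ≤ (S.ind x).coeff y := by
  by_cases h : S.rel x y
  · simp [S.coeff_ind_pos h]
  · simp [S.coeff_ind_neg h]

theorem ind_mem (x : DihedralGroup m) : S.ind x ∈ S.alg := by
  intro y z h
  by_cases hy : S.rel x y
  · rw [S.coeff_ind_pos hy, S.coeff_ind_pos (S.equiv.trans hy h)]
  · rw [S.coeff_ind_neg hy, S.coeff_ind_neg (fun hz => hy (S.equiv.trans hz (S.equiv.symm h)))]

/-- Positivity: a product of two classes is a union of classes. -/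
theorem prod_split {x₁ x₂ y : DihedralGroup m} (h : S.rel (x₁ * x₂) y) :
    ∃ y₁ y₂, S.rel x₁ y₁ ∧ S.rel x₂ y₂ ∧ y₁ * y₂ = y := by
  have h1 := S.conv _ _ (S.ind_mem x₁) (S.ind_mem x₂) _ _ h
  have hpos : 0 < (S.ind x₁ * S.ind x₂).coeff (x₁ * x₂) := by
    rw [coeff_mul_dr]
    refine Finset.sum_pos' (fun z _ => mul_nonneg (S.coeff_ind_nonneg _ _) (S.coeff_ind_nonneg _ _))
      ⟨x₁, Finset.mem_univ _, ?_⟩
    rw [inv_mul_cancel_left, S.coeff_ind_pos (S.equiv.refl _), S.coeff_ind_pos (S.equiv.refl _)]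
    norm_num
  rw [h1, coeff_mul_dr] at hpos
  obtain ⟨z, -, hz⟩ := Finset.exists_ne_zero_of_sum_ne_zero (ne_of_gt hpos)
  refine ⟨z, z⁻¹ * y, ?_, ?_, by simp⟩
  · by_contra hh; rw [S.coeff_ind_neg hh, zero_mul] at hz; exact hz rfl
  · by_contra hh; rw [S.coeff_ind_neg hh, mul_zero] at hz; exact hz rfl

/-- The subgroup generated by a union of classes is a union of classes, hence trivial or everything. -/
theorem closure_cases {U : Set (DihedralGroup m)} (hU : ∀ x y, S.rel x y → x ∈ U → y ∈ U) :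
    Subgroup.closure U = ⊥ ∨ Subgroup.closure U = ⊤ := by
  refine S.prim _ fun x y hxy hx => ?_
  suffices H : ∀ z ∈ Subgroup.closure U, ∀ w, S.rel z w → w ∈ Subgroup.closure U from H x hx y hxy
  intro z hz
  induction hz using Subgroup.closure_induction with
  | mem z hz => exact fun w hw => Subgroup.subset_closure (hU z w hw hz)
  | one => intro w hw; rw [S.one w hw]; exact one_mem _
  | mul a b _ _ iha ihb =>
    intro w hw
    obtain ⟨w₁, w₂, h1, h2, rfl⟩ := S.prod_split hw
    exact mul_mem (iha w₁ h1) (ihb w₂ h2)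
  | inv a _ iha =>
    intro w hw
    have := S.inv _ _ hw
    rw [inv_inv] at this
    simpa using inv_mem (iha _ this)

/-- The rotations. -/
def rotations (m : ℕ) : Subgroup (DihedralGroup m) where
  carrier := {g | ∃ i, g = r i}
  mul_mem' := by rintro a b ⟨i, rfl⟩ ⟨j, rfl⟩; exact ⟨i + j, r_mul_r i j⟩
  one_mem' := ⟨0, one_def⟩
  inv_mem' := by rintro a ⟨i, rfl⟩; exact ⟨-i, inv_r i⟩

theorem sr_not_rot (j : ZMod m) : sr j ∉ rotations m := by
  rintro ⟨i, hi⟩; cases hi

theorem eq_one_of_rot {x : DihedralGroup m} (h : ∀ y, S.rel x y → y ∈ rotations m) : x = 1 := by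
  rcases S.closure_cases (U := {y | S.rel x y}) (fun a b hab ha => S.equiv.trans ha hab) with hb | ht
  · exact Subgroup.mem_bot.1 (hb ▸ Subgroup.subset_closure (S.equiv.refl x))
  · exfalso
    have : Subgroup.closure {y | S.rel x y} ≤ rotations m := (Subgroup.closure_le _).2 h
    rw [ht] at this
    exact sr_not_rot 0 (this (Subgroup.mem_top _))

theorem exists_sr {x : DihedralGroup m} (hx : x ≠ 1) : ∃ i, S.rel x (sr i) := by
  by_contra hne
  push Not at hne
  refine hx (S.eq_one_of_rot fun y hy => ?_)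
  rcases y with i | i
  · exact ⟨i, rfl⟩
  · exact absurd hy (hne i)

theorem exists_r (hm : 2 ≤ m) (x : DihedralGroup m) : ∃ i, S.rel x (r i) := by
  by_contra hne
  push Not at hne
  have hsr : ∀ y, S.rel x y → ∃ j, y = sr j := by
    intro y hy
    rcases y with i | i
    · exact absurd hy (hne i)
    · exact ⟨i, rfl⟩
  have h1 : ∀ y z, S.rel x y → S.rel x z → y * z = 1 := by
    intro y z hy hz
    refine S.eq_one_of_rot fun w hw => ?_
    obtain ⟨y', z', hy', hz', rfl⟩ := S.prod_split hw
    obtain ⟨i, rfl⟩ := hsr y' (S.equiv.trans hy hy')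
    obtain ⟨j, rfl⟩ := hsr z' (S.equiv.trans hz hz')
    exact ⟨j - i, sr_mul_sr i j⟩
  obtain ⟨j, rfl⟩ := hsr x (S.equiv.refl x)
  have hsingle : ∀ y, S.rel (sr j) y → y = sr j := by
    intro y hy
    have h2 := h1 _ y (S.equiv.refl _) hy
    rw [← inv_eq_of_mul_eq_one_right h2]; simp
  rcases S.closure_cases (U := {sr j}) (fun a b hab (ha : a = sr j) => hsingle b (ha ▸ hab))
    with hb | ht
  · rw [Subgroup.closure_eq_bot_iff] at hb
    exact absurd (hb rfl) (by rw [one_def]; intro h; cases h)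
  · have hle : Subgroup.closure {(sr j : DihedralGroup m)} ≤ Subgroup.zpowers (sr j) := by
      rw [Subgroup.zpowers_eq_closure]
    rw [ht, top_le_iff] at hle
    have hcard : Nat.card (Subgroup.zpowers (sr j : DihedralGroup m)) = 2 := by
      rw [Nat.card_zpowers, orderOf_sr]
    rw [hle, Subgroup.card_top, DihedralGroup.nat_card] at hcard
    omega

theorem rel_inv_self (x : DihedralGroup m) : S.rel x x⁻¹ := by
  by_cases hx : x = 1
  · subst hx; rw [inv_one]; exact S.equiv.refl _
  · obtain ⟨i, hi⟩ := S.exists_sr hx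
    have := S.inv _ _ hi
    rw [inv_sr] at this
    exact S.equiv.trans hi (S.equiv.symm this)

variable {S}

theorem coeff_inv {a : DR m} (ha : a ∈ S.alg) (x : DihedralGroup m) :
    a.coeff x⁻¹ = a.coeff x :=
  (ha _ _ (S.rel_inv_self x)).symm

theorem refl_cP {a : DR m} (ha : a ∈ S.alg) : refl (cP a) = cP a := by
  refine cr_ext fun k => ?_
  have := coeff_inv ha (r k)
  rw [inv_r] at this
  simpa using this

/-- The Schur ring is commutative. -/
theorem comm {a b : DR m} (ha : a ∈ S.alg) (hb : b ∈ S.alg) : a * b = b * a := by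
  refine dr_ext fun g => ?_
  rw [← coeff_inv (mul_mem ha hb) g, coeff_mul_dr, coeff_mul_dr]
  refine Fintype.sum_equiv (Equiv.mulLeft g) _ _ fun z => ?_
  rw [Equiv.coe_mulLeft, ← coeff_inv hb (g * z), mul_inv_rev, ← coeff_inv ha z]
  simp [mul_comm, mul_assoc]

/-- The Schur ring as a commutative ring. -/
noncomputable instance : CommRing S.alg :=
  { (inferInstance : Ring S.alg) with
    mul_comm := fun a b => Subtype.ext (comm a.2 b.2) }

theorem refl_sP_mul_comm {a b : DR m} (ha : a ∈ S.alg) (hb : b ∈ S.alg) :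
    refl (sP a) * sP b = refl (sP b) * sP a := by
  have h := congrArg cP (comm ha hb)
  rw [cP_mul, cP_mul, mul_comm (cP b) (cP a)] at h
  exact add_left_cancel h

theorem ext_cP (hm : 2 ≤ m) {a b : DR m} (ha : a ∈ S.alg) (hb : b ∈ S.alg) (h : cP a = cP b) :
    a = b := by
  refine dr_ext fun g => ?_
  obtain ⟨i, hi⟩ := S.exists_r hm g
  rw [ha _ _ hi, hb _ _ hi]
  simpa using congrArg (fun x : CR m => x.coeff i) h

/-- Congruences are detected on the rotations. -/
theorem dvd_of_cP (hm : 2 ≤ m) {n : ℕ} (a : S.alg) (h : (n : CR m) ∣ cP (a : DR m)) :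
    (n : S.alg) ∣ a := by
  have hall : ∀ g, (n : ℤ) ∣ (a : DR m).coeff g := by
    intro g
    obtain ⟨i, hi⟩ := S.exists_r hm g
    rw [a.2 _ _ hi]
    simpa using natCast_dvd_cr.1 h i
  refine ⟨⟨mkD fun g => (a : DR m).coeff g / n, fun x y hxy => ?_⟩, Subtype.ext (dr_ext fun g => ?_)⟩
  · simp [a.2 x y hxy]
  · rw [Subring.coe_mul, SubringClass.coe_natCast, natCast_mul_coeff_dr, coeff_mkD,
      Int.mul_ediv_cancel' (hall g)]

theorem cP_dvd_of_dvd {n : ℕ} {a b : S.alg} (h : (n : S.alg) ∣ a - b) :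
    (n : CR m) ∣ cP (a : DR m) - cP (b : DR m) := by
  obtain ⟨c, hc⟩ := h
  rw [← cP_sub, ← AddSubgroupClass.coe_sub, hc, Subring.coe_mul, SubringClass.coe_natCast,
    cP_natCast_mul]
  exact dvd_mul_right _ _

end DSRing

end Cfsg.Agent.Perm.DihedralB
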